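import Groth.Agent.PicfLib.FppfLine.Effective
import Groth.Prelude.Def_AbDual

/-! A rigidified class with equal pullbacks to the double base change carries a descent datum. -/

set_option autoImplicit false
set_option backward.isDefEq.respectTransparency false
set_option backward.isDefEq.respectTransparency.types false

universe u

open CategoryTheory AlgebraicGeometry TopologicalSpace Opposite
open CategoryTheory.Limits (pullback pullback.fst pullback.snd pullback.lift pullback.condition)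

namespace Groth.Agent.PicfLib.FppfLine

open Groth.Agent.AModX Groth.Agent.InvX

noncomputable section

theorem map_ringInverse {A B : Type u} [CommRing A] [CommRing B] (f : A →+* B) {x : A} (hx : IsUnit x) :
    f (Ring.inverse x) = Ring.inverse (f x) := by
  obtain ⟨w, rfl⟩ := hx
  rw [Ring.inverse_unit]
  have : f (w : A) = ((Units.map (f : A →* B) w : Bˣ) : B) := rfl
  rw [this, Ring.inverse_unit, ← map_inv]
  rfl

theorem isUnit_ringInverse' {A : Type u} [CommRing A] {x : A} (hx : IsUnit x) : IsUnit (Ring.inverse x) := by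
  obtain ⟨w, rfl⟩ := hx
  rw [Ring.inverse_unit]
  exact w⁻¹.isUnit

/-- Functions natural on points and independent of the index glue. -/
theorem exists_global {Z : Scheme.{u}} {ι : Type u} (O : ι → Z.Opens) (hcov : ∀ z, ∃ i, z ∈ O i)
    (F : ∀ {T : Scheme.{u}} (k : T ⟶ Z) (i : ι), (∀ t, k t ∈ O i) → Γ(T, ⊤))
    (hnat : ∀ {T T' : Scheme.{u}} (l : T' ⟶ T) (k : T ⟶ Z) (i : ι) h h',
      F (l ≫ k) i h' = l.appTop.hom (F k i h))
    (hind : ∀ {T : Scheme.{u}} (k : T ⟶ Z) (i j : ι) h h', F k i h = F k j h') :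
    ∃ x : Γ(Z, ⊤), ∀ {T : Scheme.{u}} (k : T ⟶ Z) (i : ι) h, k.appTop.hom x = F k i h := by
  have hι : ∀ i, ∃ y : Γ(Z, O i), (O i).topIso.inv.hom y = F (O i).ι i (fun t => t.2) := fun i =>
    (ConcreteCategory.bijective_of_isIso (O i).topIso.inv).2 _
  choose y hy using hι
  obtain ⟨x, hx, -⟩ := existsUnique_glue (M := Coh.structureModule Z) (V := ⊤) O (fun _ => le_top)
    (fun z _ => hcov z) y (fun i j => by
      let W := O i ⊓ O j
      show resR (inf_le_left : W ≤ O i) (y i) = resR (inf_le_right : W ≤ O j) (y j)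
      apply ev_ι_injective W
      have key : ∀ (n : ι) (hn : W ≤ O n), ev W.ι W (fun t => t.2) (resR hn (y n)) = F W.ι n (fun t => hn t.2) := by
        intro n hn
        rw [ev_resR W.ι hn (fun t => hn t.2) (fun t => t.2)]
        have e : Z.homOfLE hn ≫ (O n).ι = W.ι := Z.homOfLE_ι hn
        rw [ev_congr e.symm _ _ (fun t => by rw [Scheme.Hom.comp_apply]; exact (Z.homOfLE hn t).2),
          ev_comp (Z.homOfLE hn) (O n).ι (O n) (fun t => t.2),
          ev_ι (O n) le_rfl, resR_self, hy, ← hnat (Z.homOfLE hn) (O n).ι n (fun t => t.2)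
            (fun t => by rw [Scheme.Hom.comp_apply]; exact (Z.homOfLE hn t).2)]
        congr 1
      rw [key i inf_le_left, key j inf_le_right]
      exact hind _ _ _ _ _)
  refine ⟨x, fun {T} k i h => ?_⟩
  let l := IsOpenImmersion.lift (O i).ι k (by rintro _ ⟨t, rfl⟩; rw [Scheme.Opens.range_ι]; exact h t)
  have hl : l ≫ (O i).ι = k := IsOpenImmersion.lift_fac _ _ _
  have h1 : k.appTop.hom x = ev k (O i) h (resR le_top x) := by
    rw [ev_resR k le_top (fun t => trivial) h]
    show _ = (k.appLE ⊤ ⊤ _).hom x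
    rw [Scheme.Hom.appTop, Scheme.Hom.app_eq_appLE]
    rfl
  rw [h1, show resR (le_top : O i ≤ ⊤) x = y i from hx i,
    ev_congr hl.symm _ _ (fun t => by rw [hl]; exact h t), ev_comp l (O i).ι (O i) (fun t => t.2),
    ev_ι (O i) le_rfl, resR_self, hy, ← hnat l (O i).ι i (fun t => t.2) (fun t => by rw [hl]; exact h t)]
  congr 1

variable {X S : Scheme.{u}} (f : X ⟶ S) (T : Over S) {U : Scheme.{u}} (u : U ⟶ T.left)

/-- The source of the double base change over `S`. -/
abbrev U₂ : Over S := AbDual.ovr (AbDual.ovr T u) (pullback.fst u u)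

/-- The first projection. -/
abbrev c₁ : U₂ T u ⟶ AbDual.ovr T u := AbDual.ovrHom (AbDual.ovr T u) (pullback.fst u u)

/-- The second projection. -/
abbrev c₂ : U₂ T u ⟶ AbDual.ovr T u := Over.homMk (pullback.snd u u) (CategoryTheory.Limits.pullback.condition_assoc T.hom).symm

/-- The map to the base change of `T`. -/
abbrev pU : PicF.XT f (AbDual.ovr T u) ⟶ PicF.XT f T := PicF.XTmap f (AbDual.ovrHom T u)

@[reassoc]
theorem XTmap_fst {T' T'' : Over S} (g : T'' ⟶ T') :
    PicF.XTmap f g ≫ pullback.fst f T'.hom = pullback.fst f T''.hom := by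
  simp [PicF.XTmap, CategoryTheory.Limits.pullback.map]

@[reassoc]
theorem XTmap_snd {T' T'' : Over S} (g : T'' ⟶ T') :
    PicF.XTmap f g ≫ pullback.snd f T'.hom = pullback.snd f T''.hom ≫ g.left := by
  simp [PicF.XTmap, CategoryTheory.Limits.pullback.map]

theorem pU_snd : pU f T u ≫ PicF.XTproj f T = PicF.XTproj f (AbDual.ovr T u) ≫ u :=
  XTmap_snd f (AbDual.ovrHom T u)

theorem isPullback_pU : IsPullback (pU f T u) (PicF.XTproj f (AbDual.ovr T u)) (PicF.XTproj f T) u :=
  IsPullback.of_right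
    (by rw [XTmap_fst f (AbDual.ovrHom T u)]; exact IsPullback.of_hasPullback f (u ≫ T.hom))
    (pU_snd f T u) (IsPullback.of_hasPullback f T.hom)

theorem secT_pU (σ : S ⟶ X) (hσ : σ ≫ f = 𝟙 S) {T' T'' : Over S} (g : T'' ⟶ T') :
    PicF.secT f σ hσ T'' ≫ PicF.XTmap f g = g.left ≫ PicF.secT f σ hσ T' := by
  apply CategoryTheory.Limits.pullback.hom_ext
  · rw [Category.assoc, XTmap_fst, PicF.secT, CategoryTheory.Limits.pullback.lift_fst, Category.assoc, PicF.secT,
      CategoryTheory.Limits.pullback.lift_fst, ← Category.assoc, Over.w g]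
  · rw [Category.assoc, XTmap_snd, PicF.secT, CategoryTheory.Limits.pullback.lift_snd_assoc, Category.assoc,
      PicF.secT, CategoryTheory.Limits.pullback.lift_snd]
    simp

variable {f T u}

/-- Two points with the same image give a point of the double base change. -/
theorem exists_lift {T' : Scheme.{u}} (g₁ g₂ : T' ⟶ PicF.XT f (AbDual.ovr T u))
    (h : g₁ ≫ pU f T u = g₂ ≫ pU f T u) :
    ∃ m : T' ⟶ PicF.XT f (U₂ T u), m ≫ PicF.XTmap f (c₁ T u) = g₁ ∧ m ≫ PicF.XTmap f (c₂ T u) = g₂ := by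
  have hf : g₁ ≫ pullback.fst f (AbDual.ovr T u).hom = g₂ ≫ pullback.fst f (AbDual.ovr T u).hom := by
    simpa [XTmap_fst] using congrArg (· ≫ pullback.fst f T.hom) h
  have hs : (g₁ ≫ pullback.snd f (AbDual.ovr T u).hom) ≫ u = (g₂ ≫ pullback.snd f (AbDual.ovr T u).hom) ≫ u := by
    simpa [XTmap_snd] using congrArg (· ≫ pullback.snd f T.hom) h
  refine ⟨pullback.lift (g₁ ≫ pullback.fst _ _) (pullback.lift (g₁ ≫ pullback.snd _ _) (g₂ ≫ pullback.snd _ _) hs)
    ?_, ?_, ?_⟩
  · show _ = _ ≫ pullback.fst u u ≫ u ≫ T.hom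
    rw [CategoryTheory.Limits.pullback.lift_fst_assoc, Category.assoc, Category.assoc, pullback.condition]
    rfl
  · apply CategoryTheory.Limits.pullback.hom_ext
    · rw [Category.assoc, XTmap_fst, CategoryTheory.Limits.pullback.lift_fst]
    · rw [Category.assoc, XTmap_snd, CategoryTheory.Limits.pullback.lift_snd_assoc]
      exact CategoryTheory.Limits.pullback.lift_fst _ _ _
  · apply CategoryTheory.Limits.pullback.hom_ext
    · rw [Category.assoc, XTmap_fst, CategoryTheory.Limits.pullback.lift_fst, hf]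
    · rw [Category.assoc, XTmap_snd, CategoryTheory.Limits.pullback.lift_snd_assoc]
      exact CategoryTheory.Limits.pullback.lift_snd _ _ _

/-- Two lifts agree. -/
theorem lift_ext {T' : Scheme.{u}} {m m' : T' ⟶ PicF.XT f (U₂ T u)}
    (h₁ : m ≫ PicF.XTmap f (c₁ T u) = m' ≫ PicF.XTmap f (c₁ T u))
    (h₂ : m ≫ PicF.XTmap f (c₂ T u) = m' ≫ PicF.XTmap f (c₂ T u)) : m = m' := by
  apply CategoryTheory.Limits.pullback.hom_ext
  · have := congrArg (· ≫ pullback.fst f (AbDual.ovr T u).hom) h₁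
    simp only [Category.assoc] at this
    rw [XTmap_fst] at this
    exact this
  · apply CategoryTheory.Limits.pullback.hom_ext
    · have := congrArg (· ≫ pullback.snd f (AbDual.ovr T u).hom) h₁
      simp only [Category.assoc] at this
      rw [XTmap_snd] at this
      simp only [Category.assoc]
      exact this
    · have := congrArg (· ≫ pullback.snd f (AbDual.ovr T u).hom) h₂
      simp only [Category.assoc] at this
      rw [XTmap_snd] at this
      simp only [Category.assoc]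
      exact this

theorem comp_u {T' : Scheme.{u}} (g₁ g₂ : T' ⟶ PicF.XT f (AbDual.ovr T u)) (h : g₁ ≫ pU f T u = g₂ ≫ pU f T u) :
    (g₁ ≫ pullback.snd f (AbDual.ovr T u).hom) ≫ u = (g₂ ≫ pullback.snd f (AbDual.ovr T u).hom) ≫ u := by
  simpa [XTmap_snd] using congrArg (· ≫ pullback.snd f T.hom) h

theorem comp_fst {T' : Scheme.{u}} (g₁ g₂ : T' ⟶ PicF.XT f (AbDual.ovr T u)) (h : g₁ ≫ pU f T u = g₂ ≫ pU f T u) :
    g₁ ≫ pullback.fst f (AbDual.ovr T u).hom = g₂ ≫ pullback.fst f (AbDual.ovr T u).hom := by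
  have := congrArg (· ≫ pullback.fst f T.hom) h
  simp only [Category.assoc] at this
  rw [XTmap_fst] at this
  exact this

theorem comp_eq {T' T'' : Scheme.{u}} (k : T'' ⟶ T') {A B : T' ⟶ PicF.XT f (AbDual.ovr T u)}
    (h : A ≫ pU f T u = B ≫ pU f T u) : (k ≫ A) ≫ pU f T u = (k ≫ B) ≫ pU f T u :=
  (Category.assoc _ _ _).trans ((congrArg (k ≫ ·) h).trans (Category.assoc _ _ _).symm)

theorem mem_comp {Z W : Scheme.{u}} {T' : Scheme.{u}} (k : T' ⟶ Z) {g : Z ⟶ W} {O : W.Opens} (h : ∀ z, g z ∈ O) :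
    ∀ t, (k ≫ g) t ∈ O := fun t => by rw [Scheme.Hom.comp_apply]; exact h _

theorem mem_comp' {Z W : Scheme.{u}} {T' : Scheme.{u}} (k : T' ⟶ Z) {g : Z ⟶ W} {O : W.Opens}
    (h : ∀ t, k t ∈ g ⁻¹ᵁ O) : ∀ t, (k ≫ g) t ∈ O := fun t => by rw [Scheme.Hom.comp_apply]; exact h t

theorem chart_rel {P : Scheme.{u}} {L : P.Modules} (a a' : Chart L) :
    ∃ r : Γ(P, a.O ⊓ a'.O), IsUnit r ∧ res L inf_le_right a'.e = r • res L inf_le_left a.e := by
  obtain ⟨r, hr'⟩ := a.he.exists_coord inf_le_left (res L (inf_le_right : a.O ⊓ a'.O ≤ a'.O) a'.e)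
  exact ⟨r, Trans.isUnit_coord (a.he.res _) (a'.he.res _) hr', hr'⟩

theorem Chart.res_rel {P : Scheme.{u}} {L : P.Modules} (a : Chart L) {O : P.Opens} (hle : O ≤ a.O) :
    (a.res hle).e = (1 : Γ(P, (a.res hle).O)) • AModX.res L (show (a.res hle).O ≤ a.O from hle) a.e :=
  (one_smul _ _).symm

theorem sec_pU {σ : S ⟶ X} {hσ : σ ≫ f = 𝟙 S} {T' : Scheme.{u}} (z₁ z₂ : T' ⟶ (AbDual.ovr T u).left)
    (h : z₁ ≫ u = z₂ ≫ u) :
    (z₁ ≫ PicF.secT f σ hσ (AbDual.ovr T u)) ≫ pU f T u = (z₂ ≫ PicF.secT f σ hσ (AbDual.ovr T u)) ≫ pU f T u := by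
  rw [Category.assoc, Category.assoc, secT_pU f σ hσ (AbDual.ovrHom T u)]
  exact (reassoc_of% h) _

end

end Groth.Agent.PicfLib.FppfLine
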