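import Groth.Agent.PicfLib.FppfLine.Rig.Norm

/-! The normalised comparison is a descent datum when functions on the base changes come from the base. -/

set_option autoImplicit false
set_option backward.isDefEq.respectTransparency false
set_option backward.isDefEq.respectTransparency.types false

universe u

open CategoryTheory AlgebraicGeometry TopologicalSpace Opposite
open CategoryTheory.Limits (pullback pullback.fst pullback.snd pullback.lift pullback.condition)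

namespace Groth.Agent.PicfLib.FppfLine

open Groth.Agent.AModX Groth.Agent.InvX

noncomputable section

theorem ev_top {T P : Scheme.{u}} (k : T ⟶ P) (O : P.Opens) (h : ∀ t, k t ∈ O) (x : Γ(P, ⊤)) :
    ev k O h (resR le_top x) = k.appTop.hom x := by
  rw [ev_resR k le_top (fun t => trivial) h]
  show (k.appLE ⊤ ⊤ _).hom x = _
  rw [Scheme.Hom.appTop, Scheme.Hom.app_eq_appLE]
  rfl

/-- Global functions equal on a cover are equal. -/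
theorem eq_of_cover_global {Z : Scheme.{u}} {ι : Type u} (V : ι → Z.Opens) (hcov : ∀ z, ∃ i, z ∈ V i) {x y : Γ(Z, ⊤)}
    (h : ∀ i, (V i).ι.appTop.hom x = (V i).ι.appTop.hom y) : x = y := by
  have e : ∀ i, resR (le_top : V i ≤ ⊤) x = resR le_top y := fun i => by
    apply ev_ι_injective (V i)
    rw [ev_top (V i).ι, ev_top (V i).ι, h i]
  obtain ⟨w, -, hu⟩ := existsUnique_glue (M := Coh.structureModule Z) (V := ⊤) V (fun _ => le_top)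
    (fun z _ => hcov z) (fun i => resR le_top x) (fun i j => (resR_resR _ _ x).trans (resR_resR _ _ x).symm)
  exact (hu x fun i => rfl).trans (hu y fun i => (e i).symm).symm

variable {X S : Scheme.{u}} {f : X ⟶ S} {T : Over S} {U : Scheme.{u}} {u : U ⟶ T.left}
variable {L : (PicF.XT f (AbDual.ovr T u)).Modules} {σ : S ⟶ X} {hσ : σ ≫ f = 𝟙 S}
variable (φ : (Scheme.Modules.pullback (PicF.XTmap f (c₁ T u))).obj L ≅
      (Scheme.Modules.pullback (PicF.XTmap f (c₂ T u))).obj L)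
variable (τ : (Scheme.Modules.pullback (PicF.secT f σ hσ (AbDual.ovr T u))).obj L ≅ Coh.structureModule _)
variable (ch : PicF.XT f (AbDual.ovr T u) → Chart L) (hch : ∀ x, x ∈ (ch x).O)

local notation "sec" => PicF.secT f σ hσ (AbDual.ovr T u)

theorem gam_nat' {Z Z' : Scheme.{u}} (k : Z' ⟶ Z) (g₁ g₂ : Z ⟶ PicF.XT f (AbDual.ovr T u))
    (g₁' g₂' : Z' ⟶ PicF.XT f (AbDual.ovr T u)) (e₁ : g₁' = k ≫ g₁) (e₂ : g₂' = k ≫ g₂) (a b : Chart L)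
    (h h₁ h₂ h' h₁' h₂') :
    gam φ τ ch hch g₁' g₂' a b h' h₁' h₂' = k.appTop.hom (gam φ τ ch hch g₁ g₂ a b h h₁ h₂) := by
  subst e₁ e₂; exact gam_nat φ τ ch hch k g₁ g₂ a b _ _ _ _ _ _

theorem XTmap_pU {Z : Over S} (w w' : Z ⟶ AbDual.ovr T u) (h : w.left ≫ u = w'.left ≫ u) :
    PicF.XTmap f w ≫ pU f T u = PicF.XTmap f w' ≫ pU f T u := by
  apply CategoryTheory.Limits.pullback.hom_ext
  · simp only [Category.assoc, XTmap_fst]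
  · simp only [Category.assoc]
    rw [XTmap_snd f (AbDual.ovrHom T u), XTmap_snd_assoc f w, XTmap_snd_assoc f w']
    exact congrArg (pullback.snd f Z.hom ≫ ·) h

variable (ha : ∀ (T : Over S) (U : T.left.Opens), IsIso ((PicF.XTproj f T).app U))

include ha in
/-- The cocycle identity on points through the base change of one test scheme. -/
theorem gam_cocycle_Z (Z : Over S) (w₁ w₂ w₃ : Z ⟶ AbDual.ovr T u) (e₁₂ : w₁.left ≫ u = w₂.left ≫ u)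
    (e₂₃ : w₂.left ≫ u = w₃.left ≫ u) {Z' : Scheme.{u}} (k : Z' ⟶ PicF.XT f Z)
    (g₁ g₂ g₃ : Z' ⟶ PicF.XT f (AbDual.ovr T u)) (d₁ : g₁ = k ≫ PicF.XTmap f w₁) (d₂ : g₂ = k ≫ PicF.XTmap f w₂)
    (d₃ : g₃ = k ≫ PicF.XTmap f w₃) (i j l : PicF.XT f (AbDual.ovr T u)) (h₁₂ h₂₃ h₁₃ h₁ h₂ h₃) :
    gam φ τ ch hch g₁ g₂ (ch i) (ch j) h₁₂ h₁ h₂ * gam φ τ ch hch g₂ g₃ (ch j) (ch l) h₂₃ h₂ h₃ =
      gam φ τ ch hch g₁ g₃ (ch i) (ch l) h₁₃ h₁ h₃ := by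
  subst d₁ d₂ d₃
  let G₁ := PicF.XTmap f w₁
  let G₂ := PicF.XTmap f w₂
  let G₃ := PicF.XTmap f w₃
  let P := PicF.XT f (AbDual.ovr T u)
  let O : P × P × P → (PicF.XT f Z).Opens := fun i =>
    G₁ ⁻¹ᵁ (ch i.1).O ⊓ (G₂ ⁻¹ᵁ (ch i.2.1).O ⊓ G₃ ⁻¹ᵁ (ch i.2.2).O)
  have M₁ : ∀ {V : Scheme.{u}} (k : V ⟶ PicF.XT f Z) i, (∀ t, k t ∈ O i) → ∀ t, (k ≫ G₁) t ∈ (ch i.1).O :=
    fun k i h t => by rw [Scheme.Hom.comp_apply]; exact (h t).1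
  have M₂ : ∀ {V : Scheme.{u}} (k : V ⟶ PicF.XT f Z) i, (∀ t, k t ∈ O i) → ∀ t, (k ≫ G₂) t ∈ (ch i.2.1).O :=
    fun k i h t => by rw [Scheme.Hom.comp_apply]; exact (h t).2.1
  have M₃ : ∀ {V : Scheme.{u}} (k : V ⟶ PicF.XT f Z) i, (∀ t, k t ∈ O i) → ∀ t, (k ≫ G₃) t ∈ (ch i.2.2).O :=
    fun k i h t => by rw [Scheme.Hom.comp_apply]; exact (h t).2.2
  have P₁₂ : ∀ {V : Scheme.{u}} (k : V ⟶ PicF.XT f Z), (k ≫ G₁) ≫ pU f T u = (k ≫ G₂) ≫ pU f T u := fun k =>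
    comp_eq k (XTmap_pU w₁ w₂ e₁₂)
  have P₂₃ : ∀ {V : Scheme.{u}} (k : V ⟶ PicF.XT f Z), (k ≫ G₂) ≫ pU f T u = (k ≫ G₃) ≫ pU f T u := fun k =>
    comp_eq k (XTmap_pU w₂ w₃ e₂₃)
  have P₁₃ : ∀ {V : Scheme.{u}} (k : V ⟶ PicF.XT f Z), (k ≫ G₁) ≫ pU f T u = (k ≫ G₃) ≫ pU f T u := fun k =>
    (P₁₂ k).trans (P₂₃ k)
  obtain ⟨x, hx⟩ := exists_global O (fun z => ⟨(_, _, _), hch _, hch _, hch _⟩)
    (fun {V} k i h => gam φ τ ch hch (k ≫ G₁) (k ≫ G₂) (ch i.1) (ch i.2.1) (P₁₂ k) (M₁ k i h) (M₂ k i h) *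
      gam φ τ ch hch (k ≫ G₂) (k ≫ G₃) (ch i.2.1) (ch i.2.2) (P₂₃ k) (M₂ k i h) (M₃ k i h) *
      Ring.inverse (gam φ τ ch hch (k ≫ G₁) (k ≫ G₃) (ch i.1) (ch i.2.2) (P₁₃ k) (M₁ k i h) (M₃ k i h)))
    (fun {V V'} l k i h h' => by
      rw [map_mul, map_mul, map_ringInverse _ (gam_isUnit φ τ ch hch _ _ _ _ _ _ _),
        ← gam_nat' φ τ ch hch l _ _ ((l ≫ k) ≫ G₁) ((l ≫ k) ≫ G₂) (Category.assoc _ _ _) (Category.assoc _ _ _)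
          _ _ _ _ _ (P₁₂ _) (M₁ (l ≫ k) i h') (M₂ (l ≫ k) i h'),
        ← gam_nat' φ τ ch hch l _ _ ((l ≫ k) ≫ G₂) ((l ≫ k) ≫ G₃) (Category.assoc _ _ _) (Category.assoc _ _ _)
          _ _ _ _ _ (P₂₃ _) (M₂ (l ≫ k) i h') (M₃ (l ≫ k) i h'),
        ← gam_nat' φ τ ch hch l _ _ ((l ≫ k) ≫ G₁) ((l ≫ k) ≫ G₃) (Category.assoc _ _ _) (Category.assoc _ _ _)
          _ _ _ _ _ (P₁₃ _) (M₁ (l ≫ k) i h') (M₃ (l ≫ k) i h')])
    (fun {V} k i j h h' => by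
      obtain ⟨r₁, hu₁, hr₁⟩ := chart_rel (ch i.1) (ch j.1)
      obtain ⟨r₂, hu₂, hr₂⟩ := chart_rel (ch i.2.1) (ch j.2.1)
      obtain ⟨r₃, hu₃, hr₃⟩ := chart_rel (ch i.2.2) (ch j.2.2)
      let A := gam φ τ ch hch _ _ _ _ (P₁₂ k) (M₁ k i h) (M₂ k i h)
      let B := gam φ τ ch hch _ _ _ _ (P₂₃ k) (M₂ k i h) (M₃ k i h)
      let C := gam φ τ ch hch _ _ _ _ (P₁₃ k) (M₁ k i h) (M₃ k i h)
      let A' := gam φ τ ch hch _ _ _ _ (P₁₂ k) (M₁ k j h') (M₂ k j h')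
      let B' := gam φ τ ch hch _ _ _ _ (P₂₃ k) (M₂ k j h') (M₃ k j h')
      let C' := gam φ τ ch hch _ _ _ _ (P₁₃ k) (M₁ k j h') (M₃ k j h')
      let q₁ := ev (k ≫ G₁) ((ch i.1).O ⊓ (ch j.1).O) (fun t => ⟨M₁ k i h t, M₁ k j h' t⟩) r₁
      let q₂ := ev (k ≫ G₂) ((ch i.2.1).O ⊓ (ch j.2.1).O) (fun t => ⟨M₂ k i h t, M₂ k j h' t⟩) r₂
      let q₃ := ev (k ≫ G₃) ((ch i.2.2).O ⊓ (ch j.2.2).O) (fun t => ⟨M₃ k i h t, M₃ k j h' t⟩) r₃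
      have eA : A' * q₂ = q₁ * A :=
        (gam_chg₂ φ τ ch hch _ _ (ch j.1) (ch i.2.1) (ch j.2.1) (P₁₂ k) (M₁ k j h') (M₂ k i h) (M₂ k j h') r₂ hr₂).trans
          (gam_chg₁ φ τ ch hch _ _ (ch i.1) (ch j.1) (ch i.2.1) (P₁₂ k) (M₁ k i h) (M₁ k j h') (M₂ k i h) r₁ hr₁)
      have eB : B' * q₃ = q₂ * B :=
        (gam_chg₂ φ τ ch hch _ _ (ch j.2.1) (ch i.2.2) (ch j.2.2) (P₂₃ k) (M₂ k j h') (M₃ k i h) (M₃ k j h') r₃ hr₃).trans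
          (gam_chg₁ φ τ ch hch _ _ (ch i.2.1) (ch j.2.1) (ch i.2.2) (P₂₃ k) (M₂ k i h) (M₂ k j h') (M₃ k i h) r₂ hr₂)
      have eC : C' * q₃ = q₁ * C :=
        (gam_chg₂ φ τ ch hch _ _ (ch j.1) (ch i.2.2) (ch j.2.2) (P₁₃ k) (M₁ k j h') (M₃ k i h) (M₃ k j h') r₃ hr₃).trans
          (gam_chg₁ φ τ ch hch _ _ (ch i.1) (ch j.1) (ch i.2.2) (P₁₃ k) (M₁ k i h) (M₁ k j h') (M₃ k i h) r₁ hr₁)
      have key : A * B * C' = A' * B' * C := ((hu₃.map _).mul (hu₂.map _)).mul_right_cancel (show _ * (q₃ * q₂) = _ * (q₃ * q₂) by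
        linear_combination (A * B * q₂) * eC - (C * B' * q₃) * eA - (C * q₁ * A) * eB)
      have hC : IsUnit C := gam_isUnit φ τ ch hch _ _ _ _ _ _ _
      have hC' : IsUnit C' := gam_isUnit φ τ ch hch _ _ _ _ _ _ _
      show A * B * Ring.inverse C = A' * B' * Ring.inverse C'
      refine (hC.mul hC').mul_right_cancel ?_
      linear_combination key + (A * B * C') * Ring.inverse_mul_cancel C hC -
        (A' * B' * C) * Ring.inverse_mul_cancel C' hC')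
  let sZ := PicF.secT f σ hσ Z
  have hb : Function.Bijective (PicF.XTproj f Z).appTop.hom :=
    haveI : IsIso (PicF.XTproj f Z).appTop := ha Z ⊤
    ConcreteCategory.bijective_of_isIso _
  obtain ⟨d, rfl⟩ := hb.2 x
  have hd : d = 1 := by
    refine eq_of_cover_global (fun i => sZ ⁻¹ᵁ O i) (fun z => ⟨(_, _, _), hch _, hch _, hch _⟩) fun i => ?_
    let V := sZ ⁻¹ᵁ O i
    have hV : ∀ t, (V.ι ≫ sZ) t ∈ O i := fun t => by rw [Scheme.Hom.comp_apply]; exact t.2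
    have hs : sZ ≫ PicF.XTproj f Z = 𝟙 Z.left := CategoryTheory.Limits.pullback.lift_snd _ _ _
    have h1 : V.ι.appTop.hom d = (V.ι ≫ sZ).appTop.hom ((PicF.XTproj f Z).appTop.hom d) := by
      show _ = ((PicF.XTproj f Z).appTop ≫ (V.ι ≫ sZ).appTop).hom d
      rw [← Scheme.Hom.comp_appTop, Category.assoc, hs, Category.comp_id]
    rw [h1, hx (V.ι ≫ sZ) i hV, map_one]
    have e : ∀ (w : Z ⟶ AbDual.ovr T u), (V.ι ≫ sZ) ≫ PicF.XTmap f w = (V.ι ≫ w.left) ≫ sec := fun w => by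
      rw [Category.assoc, secT_pU f σ hσ w, Category.assoc]
    rw [gam_cocycle_sec φ τ ch hch _ _ _ i.1 i.2.1 i.2.2 _ _ _ (e w₁) (e w₂) (e w₃) _ _ (P₁₃ _) _ _ _,
      Ring.mul_inverse_cancel _ (gam_isUnit φ τ ch hch _ _ _ _ _ _ _)]
  subst hd
  have h := hx k (i, j, l) fun t => by
    have a₁ := h₁ t; have a₂ := h₂ t; have a₃ := h₃ t
    rw [Scheme.Hom.comp_apply] at a₁ a₂ a₃
    exact ⟨a₁, a₂, a₃⟩
  rw [map_one, map_one] at h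
  have hu := gam_isUnit φ τ ch hch (k ≫ G₁) (k ≫ G₃) (ch i) (ch l) (P₁₃ k) h₁ h₃
  have := congrArg (· * gam φ τ ch hch (k ≫ G₁) (k ≫ G₃) (ch i) (ch l) (P₁₃ k) h₁ h₃) h
  simp only [one_mul] at this
  rw [this, mul_assoc, Ring.inverse_mul_cancel _ hu, mul_one]

include ha in
/-- The normalised comparison satisfies the cocycle identity. -/
theorem gam_cocycle {Z : Scheme.{u}} (g₁ g₂ g₃ : Z ⟶ PicF.XT f (AbDual.ovr T u)) (a b c : Chart L)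
    (h₁₂ h₂₃ h₁₃ h₁ h₂ h₃) :
    gam φ τ ch hch g₁ g₂ a b h₁₂ h₁ h₂ * gam φ τ ch hch g₂ g₃ b c h₂₃ h₂ h₃ =
      gam φ τ ch hch g₁ g₃ a c h₁₃ h₁ h₃ := by
  let pr := pullback.snd f (AbDual.ovr T u).hom
  let Zo : Over S := Over.mk ((g₁ ≫ pr) ≫ (AbDual.ovr T u).hom)
  have w_eq : ∀ g, g₁ ≫ pU f T u = g ≫ pU f T u → (g ≫ pr) ≫ (AbDual.ovr T u).hom = Zo.hom := fun g hg => by
    show (g ≫ pr) ≫ u ≫ T.hom = (g₁ ≫ pr) ≫ u ≫ T.hom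
    rw [← Category.assoc _ u, ← Category.assoc _ u, comp_u g₁ g hg]
  let w₁ : Zo ⟶ AbDual.ovr T u := Over.homMk (g₁ ≫ pr) rfl
  let w₂ : Zo ⟶ AbDual.ovr T u := Over.homMk (g₂ ≫ pr) (w_eq g₂ h₁₂)
  let w₃ : Zo ⟶ AbDual.ovr T u := Over.homMk (g₃ ≫ pr) (w_eq g₃ h₁₃)
  let m : Z ⟶ PicF.XT f Zo := pullback.lift (g₁ ≫ pullback.fst f (AbDual.ovr T u).hom) (𝟙 Z) (by
    rw [Category.assoc, pullback.condition, Category.id_comp]; exact (Category.assoc _ _ _).symm)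
  have hm : ∀ (g : Z ⟶ PicF.XT f (AbDual.ovr T u)) (w : Zo ⟶ AbDual.ovr T u), w.left = g ≫ pr →
      g₁ ≫ pU f T u = g ≫ pU f T u → g = m ≫ PicF.XTmap f w := fun g w hw hg => by
    apply CategoryTheory.Limits.pullback.hom_ext
    · rw [Category.assoc, XTmap_fst, CategoryTheory.Limits.pullback.lift_fst, comp_fst g₁ g hg]
    · rw [Category.assoc, XTmap_snd, CategoryTheory.Limits.pullback.lift_snd_assoc, Category.id_comp, hw]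
  refine eq_of_cover_global (fun i : _ × _ × _ => g₁ ⁻¹ᵁ (ch i.1).O ⊓ (g₂ ⁻¹ᵁ (ch i.2.1).O ⊓ g₃ ⁻¹ᵁ (ch i.2.2).O))
    (fun z => ⟨(_, _, _), hch _, hch _, hch _⟩) fun i => ?_
  let V := g₁ ⁻¹ᵁ (ch i.1).O ⊓ (g₂ ⁻¹ᵁ (ch i.2.1).O ⊓ g₃ ⁻¹ᵁ (ch i.2.2).O)
  show V.ι.appTop.hom _ = V.ι.appTop.hom _
  have n₁ : ∀ t, (V.ι ≫ g₁) t ∈ (ch i.1).O := fun t => by rw [Scheme.Hom.comp_apply]; exact t.2.1
  have n₂ : ∀ t, (V.ι ≫ g₂) t ∈ (ch i.2.1).O := fun t => by rw [Scheme.Hom.comp_apply]; exact t.2.2.1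
  have n₃ : ∀ t, (V.ι ≫ g₃) t ∈ (ch i.2.2).O := fun t => by rw [Scheme.Hom.comp_apply]; exact t.2.2.2
  rw [map_mul, ← gam_nat φ τ ch hch V.ι g₁ g₂ a b h₁₂ h₁ h₂ (comp_eq _ h₁₂) (mem_comp _ h₁) (mem_comp _ h₂),
    ← gam_nat φ τ ch hch V.ι g₂ g₃ b c h₂₃ h₂ h₃ (comp_eq _ h₂₃) (mem_comp _ h₂) (mem_comp _ h₃),
    ← gam_nat φ τ ch hch V.ι g₁ g₃ a c h₁₃ h₁ h₃ (comp_eq _ h₁₃) (mem_comp _ h₁) (mem_comp _ h₃)]
  obtain ⟨r₁, hu₁, hr₁⟩ := chart_rel a (ch i.1)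
  obtain ⟨r₂, hu₂, hr₂⟩ := chart_rel b (ch i.2.1)
  obtain ⟨r₃, hu₃, hr₃⟩ := chart_rel c (ch i.2.2)
  let q₁ := ev (V.ι ≫ g₁) (a.O ⊓ (ch i.1).O) (fun t => ⟨mem_comp _ h₁ t, n₁ t⟩) r₁
  let q₂ := ev (V.ι ≫ g₂) (b.O ⊓ (ch i.2.1).O) (fun t => ⟨mem_comp _ h₂ t, n₂ t⟩) r₂
  let q₃ := ev (V.ι ≫ g₃) (c.O ⊓ (ch i.2.2).O) (fun t => ⟨mem_comp _ h₃ t, n₃ t⟩) r₃
  let A := gam φ τ ch hch _ _ a b (comp_eq V.ι h₁₂) (mem_comp _ h₁) (mem_comp _ h₂)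
  let B := gam φ τ ch hch _ _ b c (comp_eq V.ι h₂₃) (mem_comp _ h₂) (mem_comp _ h₃)
  let C := gam φ τ ch hch _ _ a c (comp_eq V.ι h₁₃) (mem_comp _ h₁) (mem_comp _ h₃)
  let A' := gam φ τ ch hch _ _ (ch i.1) (ch i.2.1) (comp_eq V.ι h₁₂) n₁ n₂
  let B' := gam φ τ ch hch _ _ (ch i.2.1) (ch i.2.2) (comp_eq V.ι h₂₃) n₂ n₃
  let C' := gam φ τ ch hch _ _ (ch i.1) (ch i.2.2) (comp_eq V.ι h₁₃) n₁ n₃
  have ecoc : A' * B' = C' := gam_cocycle_Z φ τ ch hch ha Zo w₁ w₂ w₃ (comp_u g₁ g₂ h₁₂) (comp_u g₂ g₃ h₂₃)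
    (V.ι ≫ m) (V.ι ≫ g₁) (V.ι ≫ g₂) (V.ι ≫ g₃)
    (by rw [Category.assoc, ← hm g₁ w₁ rfl rfl]) (by rw [Category.assoc, ← hm g₂ w₂ rfl h₁₂])
    (by rw [Category.assoc, ← hm g₃ w₃ rfl h₁₃]) _ _ _ _ _ _ _ _ _
  have eA : A' * q₂ = q₁ * A :=
    (gam_chg₂ φ τ ch hch _ _ (ch i.1) b (ch i.2.1) _ n₁ (mem_comp _ h₂) n₂ r₂ hr₂).trans
      (gam_chg₁ φ τ ch hch _ _ a (ch i.1) b _ (mem_comp _ h₁) n₁ (mem_comp _ h₂) r₁ hr₁)
  have eB : B' * q₃ = q₂ * B :=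
    (gam_chg₂ φ τ ch hch _ _ (ch i.2.1) c (ch i.2.2) _ n₂ (mem_comp _ h₃) n₃ r₃ hr₃).trans
      (gam_chg₁ φ τ ch hch _ _ b (ch i.2.1) c _ (mem_comp _ h₂) n₂ (mem_comp _ h₃) r₂ hr₂)
  have eC : C' * q₃ = q₁ * C :=
    (gam_chg₂ φ τ ch hch _ _ (ch i.1) c (ch i.2.2) _ n₁ (mem_comp _ h₃) n₃ r₃ hr₃).trans
      (gam_chg₁ φ τ ch hch _ _ a (ch i.1) c _ (mem_comp _ h₁) n₁ (mem_comp _ h₃) r₁ hr₁)
  show A * B = C
  refine (hu₁.map _).mul_right_cancel (show A * B * q₁ = C * q₁ from ?_)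
  linear_combination -B * eA - A' * eB + q₃ * ecoc + eC

include φ τ ha in
theorem exists_datum (hL : PicF.IsInvertible L) : Nonempty (Datum (pU f T u) L) := by
  have hex : ∀ x : PicF.XT f (AbDual.ovr T u), ∃ a : Chart L, x ∈ a.O := fun x => by
    obtain ⟨O, hxO, e, he⟩ := InvX.exists_frame hL x
    exact ⟨⟨O, e, he⟩, hxO⟩
  choose ch hch using hex
  exact ⟨{ γ := gam φ τ ch hch
           isUnit := gam_isUnit φ τ ch hch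
           nat := gam_nat φ τ ch hch
           left := gam_left φ τ ch hch
           right := gam_right φ τ ch hch
           cocycle := gam_cocycle φ τ ch hch ha }⟩

end

end Groth.Agent.PicfLib.FppfLine
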