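import Groth.Agent.PicfLib.Trans
import Groth.Agent.InvX.Pullback
import Groth.Agent.InvUfdLib.Extend
import Groth.Agent.EgaQ.GlueMod
import Groth.Agent.ParaFX.Closed
import Groth.Agent.H23.PicMul

/-! Invertible classes on a disjoint union of open subschemes. -/

set_option autoImplicit false
set_option backward.isDefEq.respectTransparency false
set_option backward.isDefEq.respectTransparency.types false

universe u

open CategoryTheory CategoryTheory.Limits AlgebraicGeometry TopologicalSpace Opposite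

namespace Groth.Agent.PicfLib.FppfLine.Disj

open Groth.Agent.AModX Groth.Agent.InvX Groth.Agent.H23.PicMul Groth.Agent.PicClLib

noncomputable section

variable {Z : Scheme.{u}} {ι : Type u} {Zt : ι → Scheme.{u}} (k : ∀ t, Zt t ⟶ Z) [∀ t, IsOpenImmersion (k t)]
variable (hcov : ∀ z : Z, ∃ t a, k t a = z) (hdis : ∀ t s a b, k t a = k s b → t = s)

theorem subsingleton_of_empty {M : Z.Modules} {W : Z.Opens} (h : ∀ z, z ∉ W) : Subsingleton Γ(M, W) :=
  ⟨fun _ _ => eq_of_locally _ _ fun p hp => (h p hp).elim⟩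

include hcov hdis in
/-- An invertible class trivial on all the pieces is trivial. -/
theorem eq_one {d : PicF.Cl Z} (hd : PicF.IsInvertibleCl d) (h : ∀ t, PicF.pullCl (k t) d = 1) : d = 1 := by
  obtain ⟨D, rfl, -⟩ := hd
  have hfr : ∀ t, ∃ e : Γ(D, (k t) ''ᵁ ⊤), IsFrame e := fun t => by
    obtain ⟨e⟩ := cl_eq_iff.1 (h t)
    have e' : D.restrict (k t) ≅ Coh.structureModule (Zt t) :=
      (Scheme.Modules.restrictFunctorIsoPullback (k t)).app D ≪≫ e
    have h1 : IsFrame (e'.inv.app ⊤ (1 : Γ(Zt t, ⊤))) := InvX.IsFrame.map_iso e'.symm InvUfdLib.isFrame_one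
    exact ⟨_, InvUfdLib.isFrame_of_restrict (k t) h1⟩
  choose e he using hfr
  refine cl_eq_iff.2 (Trans.nonempty_iso_of_agree (fun t => k t ''ᵁ ⊤) (fun z => ?_) e he fun t s => ?_)
  · obtain ⟨t, a, rfl⟩ := hcov z
    exact ⟨t, a, trivial, rfl⟩
  · by_cases hts : t = s
    · subst hts; rfl
    · refine (subsingleton_of_empty fun z hz => ?_).elim _ _
      obtain ⟨a, -, ha⟩ := hz.1
      obtain ⟨b, -, hb⟩ := hz.2
      exact hts (hdis t s a b (ha.trans hb.symm))

include hcov hdis in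
/-- Two invertible classes equal on all the pieces are equal. -/
theorem ext_cl {c d : PicF.Cl Z} (hc : PicF.IsInvertibleCl c) (hd : PicF.IsInvertibleCl d)
    (h : ∀ t, PicF.pullCl (k t) c = PicF.pullCl (k t) d) : c = d := by
  obtain ⟨⟨b, hb⟩, hbd⟩ := exists_inv ⟨d, hd⟩
  have hbd : b * d = 1 := hbd
  have h1 : b * c = 1 := eq_one k hcov hdis (isInvertibleCl_mul hb hc) fun t => by
    rw [pullCl_mul, h t, ← pullCl_mul, hbd, pullCl_one]
  exact ((isUnit_of_isInvertibleCl hb).mul_right_inj).1 (h1.trans hbd.symm)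

include hcov hdis in
/-- Invertible classes on the pieces come from one on the union. -/
theorem exists_class (c : ∀ t, PicF.Cl (Zt t)) (hc : ∀ t, PicF.IsInvertibleCl (c t)) :
    ∃ d : PicF.Cl Z, PicF.IsInvertibleCl d ∧ ∀ t, PicF.pullCl (k t) d = c t := by
  choose L hL hLi using hc
  let P : ι → Z.Modules := fun t => (Scheme.Modules.pushforward (k t)).obj (L t)
  have hone : ∀ (t : ι) (W : (Zt t).Opens), Function.Bijective ((Pi.π P t).app (k t ''ᵁ W)) := by
    intro t W
    have hs : ∀ s, s ≠ t → Subsingleton Γ(P s, k t ''ᵁ W) := fun s hst => by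
      change Subsingleton Γ(L s, k s ⁻¹ᵁ k t ''ᵁ W)
      refine subsingleton_of_empty fun z hz => ?_
      obtain ⟨a, -, ha⟩ := hz
      exact hst (hdis t s a z ha).symm
    refine ⟨fun x y hxy => EgaQ.pi_sec_ext P _ fun s => ?_, fun y => ?_⟩
    · by_cases hst : s = t
      · subst hst; exact hxy
      · exact (hs s hst).elim _ _
    · classical
      obtain ⟨x, hx⟩ := EgaQ.exists_pi_sec P (k t ''ᵁ W) (fun s => if h : s = t then h ▸ y else 0)
      exact ⟨x, (hx t).trans (by simp)⟩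
  have hiso : ∀ t, Nonempty ((∏ᶜ P).restrict (k t) ≅ L t) := fun t => by
    let g := (Scheme.Modules.restrictFunctor (k t)).map (Pi.π P t)
    have : IsIso g := by
      rw [Scheme.Modules.Hom.isIso_iff_isIso_app]
      intro W
      rw [ConcreteCategory.isIso_iff_bijective]
      exact hone t W
    exact ⟨asIso g ≪≫ ParaFX.restrictPushforward (k t) (L t)⟩
  refine ⟨PicF.cl (∏ᶜ P), ⟨∏ᶜ P, rfl, ?_⟩, fun t => ?_⟩
  · refine isInvertible_of_frames fun z => ?_
    obtain ⟨t, a, rfl⟩ := hcov z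
    obtain ⟨e⟩ := hiso t
    obtain ⟨O, haO, s, hs⟩ := InvX.exists_frame (hLi t) a
    exact ⟨k t ''ᵁ O, ⟨a, haO, rfl⟩, _, InvUfdLib.isFrame_of_restrict (k t) (hs.map_iso e.symm)⟩
  · rw [← hL t]
    obtain ⟨e⟩ := hiso t
    exact cl_eq_iff.2 ⟨((Scheme.Modules.restrictFunctorIsoPullback (k t)).app (∏ᶜ P)).symm ≪≫ e⟩

end

end Groth.Agent.PicfLib.FppfLine.Disj
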