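import Groth.Agent.PicfLib.FppfLine.Rig.Cocycle
import Groth.Agent.S12402
import Groth.Agent.H23.PicMul

/-! Rigidified classes satisfy descent along one fppf map. -/

set_option autoImplicit false
set_option backward.isDefEq.respectTransparency false
set_option backward.isDefEq.respectTransparency.types false

universe u

open CategoryTheory AlgebraicGeometry TopologicalSpace Opposite
open CategoryTheory.Limits (pullback pullback.fst pullback.snd pullback.lift pullback.condition)

namespace Groth.Agent.PicfLib.FppfLine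

open Groth.Agent.H23.PicMul Groth.Agent.PicClLib

noncomputable section

theorem ha_baseChange {X S : Scheme.{u}} {f : X ⟶ S}
    (ha : ∀ (T : Over S) (U : T.left.Opens), IsIso ((PicF.XTproj f T).app U)) (T : Over S)
    (T' : Over T.left) (V : T'.left.Opens) : IsIso ((PicF.XTproj (PicF.XTproj f T) T').app V) := by
  let e := CategoryTheory.Limits.pullbackLeftPullbackSndIso f T.hom T'.hom
  haveI h1 : IsIso ((pullback.snd f (T'.hom ≫ T.hom)).app V) := ha (Over.mk (T'.hom ≫ T.hom)) V
  have he : PicF.XTproj (PicF.XTproj f T) T' = e.hom ≫ pullback.snd f (T'.hom ≫ T.hom) :=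
    (CategoryTheory.Limits.pullbackLeftPullbackSndIso_hom_snd f T.hom T'.hom).symm
  haveI h2 : IsIso ((e.hom ≫ pullback.snd f (T'.hom ≫ T.hom)).app V) := by
    rw [Scheme.Hom.comp_app]
    exact IsIso.comp_isIso
  exact he ▸ h2

variable {X S : Scheme.{u}} {f : X ⟶ S} {σ : S ⟶ X} {hσ : σ ≫ f = 𝟙 S}
variable {T : Over S} {U : Scheme.{u}} (u : U ⟶ T.left)

theorem flat_pU [Flat u] : Flat (pU f T u) :=
  MorphismProperty.of_isPullback (isPullback_pU f T u).flip ‹Flat u›

theorem lfp_pU [LocallyOfFinitePresentation u] : LocallyOfFinitePresentation (pU f T u) :=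
  MorphismProperty.of_isPullback (isPullback_pU f T u).flip ‹LocallyOfFinitePresentation u›

theorem surjective_pU [Surjective u] : Surjective (pU f T u) :=
  MorphismProperty.of_isPullback (isPullback_pU f T u).flip ‹Surjective u›

theorem secT_proj (T : Over S) : PicF.secT f σ hσ T ≫ PicF.XTproj f T = 𝟙 T.left :=
  CategoryTheory.Limits.pullback.lift_snd _ _ _

/-- A class trivial along the section and on the cover is trivial. -/
theorem eq_one_of_pullCl_eq_one (ha : ∀ (T : Over S) (U : T.left.Opens), IsIso ((PicF.XTproj f T).app U))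
    [Flat u] [LocallyOfFinitePresentation u] [Surjective u] {d : PicF.Cl (PicF.XT f T)}
    (hd : PicF.IsInvertibleCl d) (hsec : PicF.pullCl (PicF.secT f σ hσ T) d = 1)
    (hp : PicF.pullCl (pU f T u) d = 1) : d = 1 := by
  obtain ⟨L, rfl, hL⟩ := hd
  let e := (isPullback_pU f T u).isoPullback
  have he : pullback.fst (PicF.XTproj f T) u = e.inv ≫ pU f T u :=
    (IsPullback.isoPullback_inv_fst (isPullback_pU f T u)).symm
  have htriv : PicF.IsTrivialCl (PicF.pullCl (pullback.fst (PicF.XTproj f T) u) (PicF.cl L)) := by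
    rw [he, ← pullCl_comp, hp]
    exact pullCl_one _
  obtain ⟨N, hN, e2⟩ := S12402.result (PicF.XTproj f T) (ha_baseChange ha T) L hL u htriv
  change PicF.cl L = PicF.pullCl (PicF.XTproj f T) (PicF.cl N) at e2
  have h : PicF.cl N = 1 := by
    rw [← hsec, e2, pullCl_comp, secT_proj, pullCl_id]
  rw [e2, h, pullCl_one]

/-- A rigidified class is determined on an fppf cover. -/
theorem rig_ext (ha : ∀ (T : Over S) (U : T.left.Opens), IsIso ((PicF.XTproj f T).app U))
    [Flat u] [LocallyOfFinitePresentation u] [Surjective u] (c d : PicF.Rig f σ hσ T)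
    (h : PicF.pullCl (pU f T u) c.1 = PicF.pullCl (pU f T u) d.1) : c = d := by
  obtain ⟨⟨b, hb⟩, hbd⟩ := exists_inv ⟨d.1, d.2.1⟩
  have hbd : b * d.1 = 1 := hbd
  have hc1 : PicF.pullCl (PicF.secT f σ hσ T) c.1 = 1 := c.2.2
  have hd1 : PicF.pullCl (PicF.secT f σ hσ T) d.1 = 1 := d.2.2
  have h1 : b * c.1 = 1 := by
    refine eq_one_of_pullCl_eq_one u ha (isInvertibleCl_mul hb c.2.1) (σ := σ) (hσ := hσ) ?_ ?_
    · rw [pullCl_mul, hc1, mul_one, ← mul_one (PicF.pullCl (PicF.secT f σ hσ T) b)]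
      conv_lhs => arg 2; rw [← hd1]
      rw [← pullCl_mul, hbd, pullCl_one]
    · rw [pullCl_mul, h, ← pullCl_mul, hbd, pullCl_one]
  exact Subtype.ext (((isUnit_of_isInvertibleCl hb).mul_right_inj).1 (h1.trans hbd.symm))

/-- A rigidified class with equal pullbacks to the double base change descends. -/
theorem exists_rig (ha : ∀ (T : Over S) (U : T.left.Opens), IsIso ((PicF.XTproj f T).app U))
    [Flat u] [LocallyOfFinitePresentation u] [Surjective u] (c' : PicF.Rig f σ hσ (AbDual.ovr T u))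
    (hglue : PicF.pullCl (PicF.XTmap f (c₁ T u)) c'.1 = PicF.pullCl (PicF.XTmap f (c₂ T u)) c'.1) :
    ∃ c : PicF.Rig f σ hσ T, PicF.pullCl (pU f T u) c.1 = c'.1 := by
  obtain ⟨L, hL', hL⟩ := c'.2.1
  have htr := c'.2.2
  rw [← hL'] at hglue htr
  obtain ⟨φ⟩ := cl_eq_iff.1 hglue
  obtain ⟨τ⟩ := cl_eq_iff.1 htr
  obtain ⟨D⟩ := exists_datum φ τ ha hL
  haveI := flat_pU (f := f) u
  haveI := lfp_pU (f := f) u
  haveI := surjective_pU (f := f) u
  obtain ⟨M, hM, eM⟩ := exists_descent hL D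
  have hM' : PicF.pullCl (pU f T u) (PicF.cl M) = c'.1 := (cl_eq_iff.2 eM).trans hL'
  let n := PicF.pullCl (PicF.secT f σ hσ T) (PicF.cl M)
  let a := PicF.pullCl (PicF.XTproj f T) n
  have ha' : PicF.IsInvertibleCl a := isInvertibleCl_pullCl _ (isInvertibleCl_pullCl _ ⟨M, rfl, hM⟩)
  obtain ⟨⟨b, hb⟩, hba⟩ := exists_inv ⟨a, ha'⟩
  have hba : b * a = 1 := hba
  have hsb : PicF.pullCl (PicF.secT f σ hσ T) b * n = 1 := by
    have := congrArg (PicF.pullCl (PicF.secT f σ hσ T)) hba
    rwa [pullCl_mul, pullCl_one, show PicF.pullCl (PicF.secT f σ hσ T) a = n by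
      rw [pullCl_comp, secT_proj, pullCl_id]] at this
  have hun : PicF.pullCl u n = 1 := by
    rw [pullCl_comp]
    have e : u ≫ PicF.secT f σ hσ T = PicF.secT f σ hσ (AbDual.ovr T u) ≫ pU f T u :=
      (secT_pU f σ hσ (AbDual.ovrHom T u)).symm
    rw [e, ← pullCl_comp, hM']
    exact c'.2.2
  have hpb : PicF.pullCl (pU f T u) b = 1 := by
    have := congrArg (PicF.pullCl (pU f T u)) hba
    rwa [pullCl_mul, pullCl_one, show PicF.pullCl (pU f T u) a = 1 by
      rw [pullCl_comp, pU_snd, ← pullCl_comp, hun, pullCl_one], mul_one] at this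
  refine ⟨⟨PicF.cl M * b, isInvertibleCl_mul ⟨M, rfl, hM⟩ hb, ?_⟩, ?_⟩
  · show PicF.pullCl (PicF.secT f σ hσ T) (PicF.cl M * b) = 1
    rw [pullCl_mul, mul_comm]
    exact hsb
  · show PicF.pullCl (pU f T u) (PicF.cl M * b) = c'.1
    rw [pullCl_mul, hM', hpb, mul_one]

end

end Groth.Agent.PicfLib.FppfLine
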