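import Groth.Agent.PicfLib.FppfLine.Rig.Raw

/-! The comparison normalised along the section. -/

set_option autoImplicit false
set_option backward.isDefEq.respectTransparency false
set_option backward.isDefEq.respectTransparency.types false

universe u

open CategoryTheory AlgebraicGeometry TopologicalSpace Opposite
open CategoryTheory.Limits (pullback pullback.fst pullback.snd pullback.lift pullback.condition)

namespace Groth.Agent.PicfLib.FppfLine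

open Groth.Agent.AModX Groth.Agent.InvX

noncomputable section

variable {X S : Scheme.{u}} {f : X ⟶ S} {T : Over S} {U : Scheme.{u}} {u : U ⟶ T.left}
variable {L : (PicF.XT f (AbDual.ovr T u)).Modules} {σ : S ⟶ X} {hσ : σ ≫ f = 𝟙 S}
variable (φ : (Scheme.Modules.pullback (PicF.XTmap f (c₁ T u))).obj L ≅
      (Scheme.Modules.pullback (PicF.XTmap f (c₂ T u))).obj L)
variable (τ : (Scheme.Modules.pullback (PicF.secT f σ hσ (AbDual.ovr T u))).obj L ≅ Coh.structureModule _)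
variable (ch : PicF.XT f (AbDual.ovr T u) → Chart L) (hch : ∀ x, x ∈ (ch x).O)

local notation "sec" => PicF.secT f σ hσ (AbDual.ovr T u)

include hch in
/-- The comparison along the section is a global unit on the double base change. -/
theorem exists_norm : ∃ ν : Γ(pullback u u, ⊤), IsUnit ν ∧
    ∀ (Z : Scheme.{u}) (k : Z ⟶ pullback u u) (i j : PicF.XT f (AbDual.ovr T u)) h₁ h₂ h,
      raw φ ((k ≫ pullback.fst u u) ≫ sec) ((k ≫ pullback.snd u u) ≫ sec) (ch i) (ch j) h h₁ h₂ *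
        tt τ (k ≫ pullback.snd u u) (ch j) h₂ =
          k.appTop.hom ν * tt τ (k ≫ pullback.fst u u) (ch i) h₁ := by
  let O : PicF.XT f (AbDual.ovr T u) × PicF.XT f (AbDual.ovr T u) → (pullback u u).Opens := fun i =>
    (pullback.fst u u ≫ sec) ⁻¹ᵁ (ch i.1).O ⊓ (pullback.snd u u ≫ sec) ⁻¹ᵁ (ch i.2).O
  have M₁ : ∀ {Z : Scheme.{u}} (k : Z ⟶ pullback u u) i, (∀ t, k t ∈ O i) →
      ∀ t, ((k ≫ pullback.fst u u) ≫ sec) t ∈ (ch i.1).O := fun k i h t => by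
    rw [Category.assoc, Scheme.Hom.comp_apply]; exact (h t).1
  have M₂ : ∀ {Z : Scheme.{u}} (k : Z ⟶ pullback u u) i, (∀ t, k t ∈ O i) →
      ∀ t, ((k ≫ pullback.snd u u) ≫ sec) t ∈ (ch i.2).O := fun k i h t => by
    rw [Category.assoc, Scheme.Hom.comp_apply]; exact (h t).2
  have hP : ∀ {Z : Scheme.{u}} (k : Z ⟶ pullback u u),
      ((k ≫ pullback.fst u u) ≫ sec) ≫ pU f T u = ((k ≫ pullback.snd u u) ≫ sec) ≫ pU f T u := fun k =>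
    sec_pU _ _ (by rw [Category.assoc, Category.assoc, pullback.condition])
  obtain ⟨ν, hν⟩ := exists_global O (fun z => ⟨(_, _), hch _, hch _⟩)
    (fun {Z} k i h => raw φ _ _ (ch i.1) (ch i.2) (hP k) (M₁ k i h) (M₂ k i h) *
      tt τ (k ≫ pullback.snd u u) (ch i.2) (M₂ k i h) *
      Ring.inverse (tt τ (k ≫ pullback.fst u u) (ch i.1) (M₁ k i h)))
    (fun {Z Z'} l k i h h' => by
      rw [map_mul, map_mul, map_ringInverse _ (tt_isUnit τ _ _ _),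
        ← raw_nat φ l _ _ (ch i.1) (ch i.2) (hP k) (M₁ k i h) (M₂ k i h) (comp_eq l (hP k))
          (mem_comp l (M₁ k i h)) (mem_comp l (M₂ k i h)),
        ← tt_nat τ l _ (ch i.2) (M₂ k i h) (fun t => by rw [Category.assoc]; exact mem_comp l (M₂ k i h) t),
        ← tt_nat τ l _ (ch i.1) (M₁ k i h) (fun t => by rw [Category.assoc]; exact mem_comp l (M₁ k i h) t)]
      simp only [Category.assoc])
    (fun {Z} k i j h h' => by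
      obtain ⟨r, hru, hr'⟩ := chart_rel (ch i.1) (ch j.1)
      obtain ⟨r', hru', hr''⟩ := chart_rel (ch i.2) (ch j.2)
      rw [tt_chg τ _ (ch i.1) (ch j.1) (M₁ k i h) (M₁ k j h') r hr',
        tt_chg τ _ (ch i.2) (ch j.2) (M₂ k i h) (M₂ k j h') r' hr'',
        ← raw_chg₂ φ _ _ (ch i.1) (ch i.2) (ch j.2) (hP k) (M₁ k i h) (M₂ k i h) (M₂ k j h') r' hr'',
        raw_chg₁ φ _ _ (ch i.1) (ch j.1) (ch j.2) (hP k) (M₁ k i h) (M₁ k j h') (M₂ k j h') r hr']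
      have q := hru.map (ev ((k ≫ pullback.fst u u) ≫ sec) ((ch i.1).O ⊓ (ch j.1).O) (fun t => ⟨M₁ k i h t, M₁ k j h' t⟩))
      have w := tt_isUnit τ _ (ch i.1) (M₁ k i h)
      refine w.mul_right_cancel (q.mul_right_cancel ?_)
      have e1 := Ring.inverse_mul_cancel _ w
      have e2 := Ring.inverse_mul_cancel _ (q.mul w)
      linear_combination (raw φ _ _ (ch i.1) (ch j.2) (hP k) (M₁ k i h) (M₂ k j h') *
        ev ((k ≫ pullback.snd u u) ≫ sec) ((ch i.2).O ⊓ (ch j.2).O) (fun t => ⟨M₂ k i h t, M₂ k j h' t⟩) r' *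
        tt τ _ (ch i.2) (M₂ k i h) *
        ev ((k ≫ pullback.fst u u) ≫ sec) ((ch i.1).O ⊓ (ch j.1).O) (fun t => ⟨M₁ k i h t, M₁ k j h' t⟩) r) * (e1 - e2))
  refine ⟨ν, ?_, fun Z k i j h₁ h₂ h => ?_⟩
  · rw [← resR_self ν]
    refine isUnit_resR le_rfl ν fun z _ => ?_
    let i : PicF.XT f (AbDual.ovr T u) × PicF.XT f (AbDual.ovr T u) :=
      ((pullback.fst u u ≫ sec) z, (pullback.snd u u ≫ sec) z)
    have hu : IsUnit ((O i).ι.appTop.hom ν) := by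
      rw [hν (O i).ι i (fun t => t.2)]
      exact ((raw_isUnit φ _ _ _ _ _ _ _).mul (tt_isUnit τ _ _ _)).mul (isUnit_ringInverse' (tt_isUnit τ _ _ _))
    have h2 : (⊤ : (O i : Scheme.{u}).Opens) ≤ (O i).ι ⁻¹ᵁ (pullback u u).basicOpen ν := by
      rw [Scheme.preimage_basicOpen_top, Scheme.basicOpen_of_isUnit _ hu]
    exact h2 (show (⟨z, hch _, hch _⟩ : (O i : Scheme.{u})) ∈ (⊤ : (O i : Scheme.{u}).Opens) from trivial)
  · rw [hν k (i, j) (fun t => ⟨by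
      have := h₁ t; rwa [Category.assoc, Scheme.Hom.comp_apply] at this, by
      have := h₂ t; rwa [Category.assoc, Scheme.Hom.comp_apply] at this⟩), mul_assoc,
      Ring.inverse_mul_cancel _ (tt_isUnit τ _ _ _), mul_one]

variable {Z Z' : Scheme.{u}}

/-- The normalising factor at two points. -/
def nrm (g₁ g₂ : Z ⟶ PicF.XT f (AbDual.ovr T u)) (h : g₁ ≫ pU f T u = g₂ ≫ pU f T u) : Γ(Z, ⊤) :=
  (pullback.lift _ _ (comp_u g₁ g₂ h)).appTop.hom (Ring.inverse (exists_norm φ τ ch hch).choose)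

/-- The normalised comparison. -/
def gam (g₁ g₂ : Z ⟶ PicF.XT f (AbDual.ovr T u)) (a b : Chart L) (h : g₁ ≫ pU f T u = g₂ ≫ pU f T u)
    (h₁ : ∀ t, g₁ t ∈ a.O) (h₂ : ∀ t, g₂ t ∈ b.O) : Γ(Z, ⊤) :=
  nrm φ τ ch hch g₁ g₂ h * raw φ g₁ g₂ a b h h₁ h₂

theorem gam_isUnit (g₁ g₂ : Z ⟶ PicF.XT f (AbDual.ovr T u)) (a b : Chart L) (h h₁ h₂) :
    IsUnit (gam φ τ ch hch g₁ g₂ a b h h₁ h₂) :=
  ((isUnit_ringInverse' (exists_norm φ τ ch hch).choose_spec.1).map _).mul (raw_isUnit φ _ _ _ _ _ _ _)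

theorem gam_nat (k : Z' ⟶ Z) (g₁ g₂ : Z ⟶ PicF.XT f (AbDual.ovr T u)) (a b : Chart L) (h h₁ h₂ h' h₁' h₂') :
    gam φ τ ch hch (k ≫ g₁) (k ≫ g₂) a b h' h₁' h₂' = k.appTop.hom (gam φ τ ch hch g₁ g₂ a b h h₁ h₂) := by
  rw [gam, gam, map_mul, raw_nat φ k g₁ g₂ a b h h₁ h₂ h' h₁' h₂']
  congr 1
  rw [nrm, nrm, show pullback.lift _ _ (comp_u (k ≫ g₁) (k ≫ g₂) h') = k ≫ pullback.lift _ _ (comp_u g₁ g₂ h) by
    apply CategoryTheory.Limits.pullback.hom_ext <;> simp, Scheme.Hom.comp_appTop]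
  rfl

theorem gam_left (g₁ g₂ : Z ⟶ PicF.XT f (AbDual.ovr T u)) (a a' b : Chart L) (hle : a'.O ≤ a.O)
    (r : Γ(PicF.XT f (AbDual.ovr T u), a'.O)) (hr : a'.e = r • res L hle a.e) (h h₁ h₁' h₂) :
    gam φ τ ch hch g₁ g₂ a' b h h₁' h₂ = ev g₁ a'.O h₁' r * gam φ τ ch hch g₁ g₂ a b h h₁ h₂ := by
  rw [gam, gam, raw_left φ g₁ g₂ a a' b hle r hr h h₁ h₁' h₂]; ring

theorem gam_right (g₁ g₂ : Z ⟶ PicF.XT f (AbDual.ovr T u)) (a b b' : Chart L) (hle : b'.O ≤ b.O)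
    (r : Γ(PicF.XT f (AbDual.ovr T u), b'.O)) (hr : b'.e = r • res L hle b.e) (h h₁ h₂ h₂') :
    gam φ τ ch hch g₁ g₂ a b' h h₁ h₂' * ev g₂ b'.O h₂' r = gam φ τ ch hch g₁ g₂ a b h h₁ h₂ := by
  rw [gam, gam, ← raw_right φ g₁ g₂ a b b' hle r hr h h₁ h₂ h₂']; ring

theorem gam_chg₁ (g₁ g₂ : Z ⟶ PicF.XT f (AbDual.ovr T u)) (a a' b : Chart L) (h h₁ h₁' h₂)
    (r : Γ(PicF.XT f (AbDual.ovr T u), a.O ⊓ a'.O)) (hr : res L inf_le_right a'.e = r • res L inf_le_left a.e) :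
    gam φ τ ch hch g₁ g₂ a' b h h₁' h₂ =
      ev g₁ (a.O ⊓ a'.O) (fun t => ⟨h₁ t, h₁' t⟩) r * gam φ τ ch hch g₁ g₂ a b h h₁ h₂ := by
  rw [gam, gam, raw_chg₁ φ g₁ g₂ a a' b h h₁ h₁' h₂ r hr]; ring

theorem gam_chg₂ (g₁ g₂ : Z ⟶ PicF.XT f (AbDual.ovr T u)) (a b b' : Chart L) (h h₁ h₂ h₂')
    (r : Γ(PicF.XT f (AbDual.ovr T u), b.O ⊓ b'.O)) (hr : res L inf_le_right b'.e = r • res L inf_le_left b.e) :
    gam φ τ ch hch g₁ g₂ a b' h h₁ h₂' * ev g₂ (b.O ⊓ b'.O) (fun t => ⟨h₂ t, h₂' t⟩) r =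
      gam φ τ ch hch g₁ g₂ a b h h₁ h₂ := by
  rw [gam, gam, ← raw_chg₂ φ g₁ g₂ a b b' h h₁ h₂ h₂' r hr]; ring

/-- The normalised comparison along the section. -/
theorem gam_sec (z₁ z₂ : Z ⟶ (AbDual.ovr T u).left) (i j : PicF.XT f (AbDual.ovr T u))
    (g₁ g₂ : Z ⟶ PicF.XT f (AbDual.ovr T u)) (e₁ : g₁ = z₁ ≫ sec) (e₂ : g₂ = z₂ ≫ sec) (h h₁ h₂ h₁' h₂') :
    gam φ τ ch hch g₁ g₂ (ch i) (ch j) h h₁ h₂ * tt τ z₂ (ch j) h₂' = tt τ z₁ (ch i) h₁' := by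
  subst e₁ e₂
  have hz : z₁ ≫ u = z₂ ≫ u := by simpa [PicF.secT] using comp_u _ _ h
  obtain ⟨k, hk₁, hk₂⟩ : ∃ k : Z ⟶ pullback u u, k ≫ pullback.fst u u = z₁ ∧ k ≫ pullback.snd u u = z₂ :=
    ⟨pullback.lift z₁ z₂ hz, CategoryTheory.Limits.pullback.lift_fst _ _ _,
      CategoryTheory.Limits.pullback.lift_snd _ _ _⟩
  subst hk₁ hk₂
  have hk : pullback.lift _ _ (comp_u _ _ h) = k := by
    apply CategoryTheory.Limits.pullback.hom_ext <;> simp [PicF.secT]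
  obtain ⟨hνu, hν⟩ := (exists_norm φ τ ch hch).choose_spec
  rw [gam, nrm, hk, map_ringInverse _ hνu]
  have hu := hνu.map k.appTop.hom
  refine hu.mul_left_cancel ?_
  rw [← mul_assoc, ← mul_assoc, Ring.mul_inverse_cancel _ hu, one_mul]
  exact hν Z k i j h₁ h₂ h

include hch in
/-- The cocycle identity along the section. -/
theorem gam_cocycle_sec (z₁ z₂ z₃ : Z ⟶ (AbDual.ovr T u).left) (i j l : PicF.XT f (AbDual.ovr T u))
    (g₁ g₂ g₃ : Z ⟶ PicF.XT f (AbDual.ovr T u)) (e₁ : g₁ = z₁ ≫ sec) (e₂ : g₂ = z₂ ≫ sec) (e₃ : g₃ = z₃ ≫ sec)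
    (h₁₂ h₂₃ h₁₃ h₁ h₂ h₃) :
    gam φ τ ch hch g₁ g₂ (ch i) (ch j) h₁₂ h₁ h₂ * gam φ τ ch hch g₂ g₃ (ch j) (ch l) h₂₃ h₂ h₃ =
      gam φ τ ch hch g₁ g₃ (ch i) (ch l) h₁₃ h₁ h₃ := by
  have n₁ : ∀ t, (z₁ ≫ sec) t ∈ (ch i).O := fun t => e₁ ▸ h₁ t
  have n₂ : ∀ t, (z₂ ≫ sec) t ∈ (ch j).O := fun t => e₂ ▸ h₂ t
  have n₃ : ∀ t, (z₃ ≫ sec) t ∈ (ch l).O := fun t => e₃ ▸ h₃ t
  refine (tt_isUnit τ z₃ (ch l) n₃).mul_right_cancel ?_
  rw [mul_assoc, gam_sec φ τ ch hch z₂ z₃ j l g₂ g₃ e₂ e₃ h₂₃ h₂ h₃ n₂ n₃,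
    gam_sec φ τ ch hch z₁ z₂ i j g₁ g₂ e₁ e₂ h₁₂ h₁ h₂ n₁ n₂,
    gam_sec φ τ ch hch z₁ z₃ i l g₁ g₃ e₁ e₃ h₁₃ h₁ h₃ n₁ n₃]

end

end Groth.Agent.PicfLib.FppfLine
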