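import Groth.Agent.PicfLib.FppfLine.Rig.Main
import Groth.Agent.PicfLib.FppfLine.Rig.Disjoint
import Mathlib.AlgebraicGeometry.Sites.Fpqc

/-! Rigidified classes are the points of a scheme representing the fppf sheafified Picard functor. -/

set_option autoImplicit false
set_option backward.isDefEq.respectTransparency false
set_option backward.isDefEq.respectTransparency.types false

universe u

open CategoryTheory AlgebraicGeometry TopologicalSpace Opposite
open CategoryTheory.Limits (pullback pullback.fst pullback.snd pullback.lift pullback.condition)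

namespace Groth.Agent.PicfLib.FppfLine

open Groth.Agent.H23.PicMul Groth.Agent.PicClLib Groth.Agent.InvX

noncomputable section

variable {X S : Scheme.{u}} {f : X ⟶ S}

theorem isPullback_XTmap {T T' : Over S} (g : T' ⟶ T) :
    IsPullback (PicF.XTmap f g) (PicF.XTproj f T') (PicF.XTproj f T) g.left :=
  IsPullback.of_right
    (by rw [XTmap_fst f g, Over.w g]; exact IsPullback.of_hasPullback f T'.hom)
    (XTmap_snd f g) (IsPullback.of_hasPullback f T.hom)

theorem XTmap_comp {T T' T'' : Over S} (g : T'' ⟶ T') (h : T' ⟶ T) :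
    PicF.XTmap f g ≫ PicF.XTmap f h = PicF.XTmap f (g ≫ h) := by
  apply CategoryTheory.Limits.pullback.hom_ext
  · simp only [Category.assoc, XTmap_fst]
  · simp only [Category.assoc, XTmap_snd, XTmap_snd_assoc, Over.comp_left]

/-- A covering family refines to a disjoint union of members. -/
theorem exists_cover {Y : Scheme.{u}} {R : Presieve Y} (hR : R ∈ Scheme.fppfPrecoverage Y) :
    ∃ (U : Scheme.{u}) (u : U ⟶ Y) (_ : Flat u) (_ : LocallyOfFinitePresentation u) (_ : Surjective u)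
      (Ut : Y → Scheme.{u}) (ut : ∀ t, Ut t ⟶ Y) (j : ∀ t, Ut t ⟶ U),
      (∀ t, R (ut t)) ∧ (∀ t, j t ≫ u = ut t) ∧ (∀ t, IsOpenImmersion (j t)) ∧
      (∀ z, ∃ t a, j t a = z) ∧ (∀ t s a b, j t a = j s b → t = s) ∧
      (∀ (W : Scheme.{u}) (a b : U ⟶ W), (∀ t, j t ≫ a = j t ≫ b) → a = b) := by
  have hex : ∀ t : Y, ∃ (V : Scheme.{u}) (v : V ⟶ Y), R v ∧ t ∈ Set.range v := fun t => by
    obtain ⟨_, _, ⟨h⟩, ht⟩ := hR.1 t
    exact ⟨_, _, h, ht⟩
  choose Ut ut hut hmem using hex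
  have hprop : ∀ t, Flat (ut t) ∧ LocallyOfFinitePresentation (ut t) := fun t => hR.2 (hut t)
  let u := CategoryTheory.Limits.Sigma.desc ut
  have hju : ∀ t, CategoryTheory.Limits.Sigma.ι Ut t ≫ u = ut t := fun t =>
    CategoryTheory.Limits.Sigma.ι_desc _ _
  refine ⟨∐ Ut, u, IsZariskiLocalAtSource.sigmaDesc fun t => (hprop t).1,
    IsZariskiLocalAtSource.sigmaDesc fun t => (hprop t).2, ⟨fun y => ?_⟩, Ut, ut,
    CategoryTheory.Limits.Sigma.ι Ut, hut, hju, fun t => inferInstance,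
    fun z => (sigmaOpenCover Ut).exists_eq z, fun t s a b h => ?_,
    fun W a b h => CategoryTheory.Limits.Sigma.hom_ext _ _ h⟩
  · obtain ⟨a, ha⟩ := hmem y
    exact ⟨CategoryTheory.Limits.Sigma.ι Ut y a, by rw [← Scheme.Hom.comp_apply, hju]; exact ha⟩
  · exact (Sigma.mk.inj_iff.1 ((sigmaι_eq_iff _ _ _ _ _).1 h)).1

variable {σ : S ⟶ X} {hσ : σ ≫ f = 𝟙 S}
variable {P : Over S} {φ : ∀ T : Over S, PicF.Cl (PicF.XT f T) → (T ⟶ P)}

theorem pullCl_secT_XTmap {T T' : Over S} (g : T' ⟶ T) (c : PicF.Cl (PicF.XT f T)) :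
    PicF.pullCl (PicF.secT f σ hσ T') (PicF.pullCl (PicF.XTmap f g) c) =
      PicF.pullCl g.left (PicF.pullCl (PicF.secT f σ hσ T) c) := by
  rw [pullCl_comp, pullCl_comp, secT_pU f σ hσ g]

theorem pullCl_XTmap_proj {T T' : Over S} (g : T' ⟶ T) (n : PicF.Cl T.left) :
    PicF.pullCl (PicF.XTmap f g) (PicF.pullCl (PicF.XTproj f T) n) =
      PicF.pullCl (PicF.XTproj f T') (PicF.pullCl g.left n) := by
  rw [pullCl_comp, pullCl_comp, XTmap_snd f g]

/-- Twisting by the base does not change the point. -/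
theorem phi_twist (hP : AbDual.IsRelPicK Scheme.fppfPrecoverage f P φ) (T : Over S)
    {c : PicF.Cl (PicF.XT f T)} (hc : PicF.IsInvertibleCl c) {n : PicF.Cl T.left} (hn : PicF.IsInvertibleCl n) :
    φ T (c * PicF.pullCl (PicF.XTproj f T) n) = φ T c := by
  obtain ⟨N, rfl, hN⟩ := hn
  choose V hxV e using hN
  let 𝒰 := T.left.openCoverOfIsOpenCover V (TopologicalSpace.IsOpenCover.mk (eq_top_iff.2 fun x _ =>
    Opens.mem_iSup.2 ⟨x, hxV x⟩))
  apply Over.OverMorphism.ext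
  refine 𝒰.hom_ext _ _ fun x => ?_
  obtain ⟨ex⟩ := e x
  have h1 : PicF.pullCl (V x).ι (PicF.cl N) = 1 :=
    cl_eq_iff.2 ⟨((Scheme.Modules.restrictFunctorIsoPullback (V x).ι).app N).symm ≪≫ ex⟩
  have hinv : PicF.IsInvertibleCl (c * PicF.pullCl (PicF.XTproj f T) (PicF.cl N)) :=
    isInvertibleCl_mul hc (isInvertibleCl_pullCl _ ⟨N, rfl, fun y => ⟨V y, hxV y, e y⟩⟩)
  have e1 := hP.natural T (AbDual.ovr T (V x).ι) (AbDual.ovrHom T (V x).ι) _ hinv
  rw [pullCl_mul, pullCl_XTmap_proj, show (AbDual.ovrHom T (V x).ι).left = (V x).ι from rfl, h1, pullCl_one,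
    mul_one, hP.natural T (AbDual.ovr T (V x).ι) (AbDual.ovrHom T (V x).ι) c hc] at e1
  exact (congrArg CommaMorphism.left e1).symm

/-- Every invertible class has a rigidified one with the same point. -/
theorem exists_rig_rep (hP : AbDual.IsRelPicK Scheme.fppfPrecoverage f P φ) (T : Over S)
    {c : PicF.Cl (PicF.XT f T)} (hc : PicF.IsInvertibleCl c) :
    ∃ r : PicF.Rig f σ hσ T, φ T r.1 = φ T c := by
  obtain ⟨⟨m, hm⟩, hmn⟩ := exists_inv ⟨_, isInvertibleCl_pullCl (PicF.secT f σ hσ T) hc⟩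
  have hmn : m * PicF.pullCl (PicF.secT f σ hσ T) c = 1 := hmn
  refine ⟨⟨c * PicF.pullCl (PicF.XTproj f T) m, isInvertibleCl_mul hc (isInvertibleCl_pullCl _ hm), ?_⟩,
    phi_twist hP T hc hm⟩
  show _ = (1 : PicF.Cl T.left)
  rw [pullCl_mul, pullCl_comp (PicF.secT f σ hσ T) (PicF.XTproj f T), secT_proj, pullCl_id, mul_comm]
  exact hmn

/-- The pieces of the base change along a disjoint cover. -/
theorem pieces (T : Over S) {U : Scheme.{u}} {u : U ⟶ T.left} {ι : Type u} {Ut : ι → Scheme.{u}}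
    {ut : ∀ t, Ut t ⟶ T.left} {j : ∀ t, Ut t ⟶ U} (hju : ∀ t, j t ≫ u = ut t)
    [∀ t, IsOpenImmersion (j t)] (hcov : ∀ z, ∃ t a, j t a = z) (hdis : ∀ t s a b, j t a = j s b → t = s) :
    ∃ w : ∀ t, AbDual.ovr T (ut t) ⟶ AbDual.ovr T u, (∀ t, (w t).left = j t) ∧
      (∀ t, w t ≫ AbDual.ovrHom T u = AbDual.ovrHom T (ut t)) ∧ (∀ t, IsOpenImmersion (PicF.XTmap f (w t))) ∧
      (∀ z, ∃ t a, PicF.XTmap f (w t) a = z) ∧
      (∀ t s a b, PicF.XTmap f (w t) a = PicF.XTmap f (w s) b → t = s) := by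
  let w : ∀ t, AbDual.ovr T (ut t) ⟶ AbDual.ovr T u := fun t =>
    Over.homMk (j t) ((Category.assoc _ _ _).symm.trans (congrArg (· ≫ T.hom) (hju t)))
  refine ⟨w, fun t => rfl, fun t => Over.OverMorphism.ext (hju t), fun t => ?_, fun z => ?_, fun t s a b h => ?_⟩
  · exact MorphismProperty.of_isPullback (isPullback_XTmap (f := f) (w t)).flip
      (inferInstanceAs (IsOpenImmersion (j t)))
  · obtain ⟨t, a, ha⟩ := hcov (PicF.XTproj f (AbDual.ovr T u) z)
    obtain ⟨b, hb, -⟩ := Scheme.exists_preimage_of_isPullback (isPullback_XTmap (f := f) (w t)) z a ha.symm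
    exact ⟨t, b, hb⟩
  · have h' := congrArg (PicF.XTproj f (AbDual.ovr T u)) h
    rw [← Scheme.Hom.comp_apply, ← Scheme.Hom.comp_apply, XTmap_snd f (w t), XTmap_snd f (w s),
      Scheme.Hom.comp_apply, Scheme.Hom.comp_apply] at h'
    exact hdis _ _ _ _ h'

variable (ha : ∀ (T : Over S) (U : T.left.Opens), IsIso ((PicF.XTproj f T).app U))

include ha in
theorem injective_points (hP : AbDual.IsRelPicK Scheme.fppfPrecoverage f P φ) (T : Over S) :
    Function.Injective (fun c : PicF.Rig f σ hσ T => φ T c.1) := by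
  intro c d hcd
  obtain ⟨R, hR, hloc⟩ := hP.locallyInjective T c.1 d.1 c.2.1 d.2.1 hcd
  obtain ⟨U, u, _, _, _, Ut, ut, j, hut, hju, hj, hcov, hdis, -⟩ := exists_cover hR
  obtain ⟨w, -, hw, hwo, hwc, hwd⟩ := pieces (f := f) T hju hcov hdis
  refine rig_ext u ha c d (Disj.ext_cl (fun t => PicF.XTmap f (w t)) hwc hwd (isInvertibleCl_pullCl _ c.2.1)
    (isInvertibleCl_pullCl _ d.2.1) fun t => ?_)
  rw [pullCl_comp, pullCl_comp, XTmap_comp, hw]
  exact hloc _ (hut t)

include ha in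
theorem bijective_points (hP : AbDual.IsRelPicK Scheme.fppfPrecoverage f P φ) (T : Over S) :
    Function.Bijective (fun c : PicF.Rig f σ hσ T => φ T c.1) := by
  refine ⟨injective_points ha hP T, fun g => ?_⟩
  obtain ⟨R, hR, hloc⟩ := hP.locallySurjective T g
  obtain ⟨U, u, _, _, _, Ut, ut, j, hut, hju, hj, hcov, hdis, hext⟩ := exists_cover hR
  obtain ⟨w, hwl, hw, hwo, hwc, hwd⟩ := pieces (f := f) T hju hcov hdis
  choose c hc hφ using fun t => hloc _ (hut t)
  obtain ⟨d, hd, hdk⟩ := Disj.exists_class (fun t => PicF.XTmap f (w t)) hwc hwd c hc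
  have hφd : φ (AbDual.ovr T u) d = AbDual.ovrHom T u ≫ g := by
    apply Over.OverMorphism.ext
    refine hext _ _ _ fun t => ?_
    have e := hP.natural _ _ (w t) d hd
    rw [hdk t, hφ t, ← hw t, Category.assoc] at e
    have := congrArg CommaMorphism.left e
    simp only [Over.comp_left, hwl] at this
    exact this.symm
  obtain ⟨r, hr⟩ := exists_rig_rep (σ := σ) (hσ := hσ) hP _ hd
  let r₁ : PicF.Rig f σ hσ (U₂ T u) := ⟨PicF.pullCl (PicF.XTmap f (c₁ T u)) r.1, isInvertibleCl_pullCl _ r.2.1, by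
    show _ = (1 : PicF.Cl (U₂ T u).left)
    rw [pullCl_secT_XTmap, show PicF.pullCl (PicF.secT f σ hσ (AbDual.ovr T u)) r.1 = 1 from r.2.2, pullCl_one]⟩
  let r₂ : PicF.Rig f σ hσ (U₂ T u) := ⟨PicF.pullCl (PicF.XTmap f (c₂ T u)) r.1, isInvertibleCl_pullCl _ r.2.1, by
    show _ = (1 : PicF.Cl (U₂ T u).left)
    rw [pullCl_secT_XTmap, show PicF.pullCl (PicF.secT f σ hσ (AbDual.ovr T u)) r.1 = 1 from r.2.2, pullCl_one]⟩
  have hglue : r₁ = r₂ := injective_points ha hP (U₂ T u) (show φ _ r₁.1 = φ _ r₂.1 by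
    rw [hP.natural _ _ (c₁ T u) r.1 r.2.1, hP.natural _ _ (c₂ T u) r.1 r.2.1, hr, hφd, ← Category.assoc,
      ← Category.assoc, show c₁ T u ≫ AbDual.ovrHom T u = c₂ T u ≫ AbDual.ovrHom T u from
        Over.OverMorphism.ext CategoryTheory.Limits.pullback.condition])
  obtain ⟨c', hc'⟩ := exists_rig u ha r (congrArg Subtype.val hglue)
  refine ⟨c', ?_⟩
  have e := hP.natural _ _ (AbDual.ovrHom T u) c'.1 c'.2.1
  rw [hc', hr, hφd] at e
  apply Over.OverMorphism.ext
  have : Epi u := Flat.epi_of_flat_of_surjective u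
  exact (cancel_epi u).1 (congrArg CommaMorphism.left e).symm

end

end Groth.Agent.PicfLib.FppfLine
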