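import Groth.Agent.PicfLib.FppfLine.Rig.Base

/-! The comparison of two charts at two points, and the coordinates along the section. -/

set_option autoImplicit false
set_option backward.isDefEq.respectTransparency false
set_option backward.isDefEq.respectTransparency.types false

universe u

open CategoryTheory AlgebraicGeometry TopologicalSpace Opposite
open CategoryTheory.Limits (pullback pullback.fst pullback.snd pullback.lift pullback.condition)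

namespace Groth.Agent.PicfLib.FppfLine

open Groth.Agent.AModX Groth.Agent.InvX

noncomputable section

variable {X S : Scheme.{u}} {f : X ⟶ S} {T : Over S} {U : Scheme.{u}} {u : U ⟶ T.left}
variable {L : (PicF.XT f (AbDual.ovr T u)).Modules}

section Raw

variable (φ : (Scheme.Modules.pullback (PicF.XTmap f (c₁ T u))).obj L ≅
      (Scheme.Modules.pullback (PicF.XTmap f (c₂ T u))).obj L)

/-- The open where two charts compare. -/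
abbrev O₁₂ (a b : Chart L) : (PicF.XT f (U₂ T u)).Opens :=
  PicF.XTmap f (c₁ T u) ⁻¹ᵁ a.O ⊓ PicF.XTmap f (c₂ T u) ⁻¹ᵁ b.O

theorem exists_γ₀ (a b : Chart L) : ∃ x : Γ(PicF.XT f (U₂ T u), O₁₂ a b), IsUnit x ∧
    res _ inf_le_left (φ.hom.app _ (pullElt (PicF.XTmap f (c₁ T u)) a.e)) =
      x • res _ inf_le_right (pullElt (PicF.XTmap f (c₂ T u)) b.e) := by
  obtain ⟨x, hx⟩ := (isFrame_pullElt (PicF.XTmap f (c₂ T u)) b.he).exists_coord inf_le_right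
    (res _ (inf_le_left : O₁₂ a b ≤ _) (φ.hom.app _ (pullElt (PicF.XTmap f (c₁ T u)) a.e)))
  exact ⟨x, Trans.isUnit_coord ((isFrame_pullElt _ b.he).res _)
    (((isFrame_pullElt _ a.he).map_iso φ).res _) hx, hx⟩

/-- The comparison of two charts. -/
def γ₀ (a b : Chart L) : Γ(PicF.XT f (U₂ T u), O₁₂ a b) := (exists_γ₀ φ a b).choose

theorem γ₀_spec (a b : Chart L) :
    res _ inf_le_left (φ.hom.app _ (pullElt (PicF.XTmap f (c₁ T u)) a.e)) =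
      γ₀ φ a b • res _ inf_le_right (pullElt (PicF.XTmap f (c₂ T u)) b.e) := (exists_γ₀ φ a b).choose_spec.2

theorem γ₀_left (a a' b : Chart L) (hle : a'.O ≤ a.O) (r : Γ(PicF.XT f (AbDual.ovr T u), a'.O)) (hr : a'.e = r • res L hle a.e) :
    γ₀ φ a' b = resR inf_le_left (((PicF.XTmap f (c₁ T u)).app a'.O).hom r) *
      resR (inf_le_inf ((PicF.XTmap f (c₁ T u)).preimage_mono hle) le_rfl) (γ₀ φ a b) := by
  refine (isFrame_pullElt (PicF.XTmap f (c₂ T u)) b.he).coord_unique inf_le_right ?_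
  rw [← γ₀_spec φ a' b, hr, pullElt_smul, Scheme.Modules.Hom.app_smul, res_smul, ← res_pullElt, app_res, res_res]
  have h := congrArg (res _ (inf_le_inf ((PicF.XTmap f (c₁ T u)).preimage_mono hle) le_rfl :
    O₁₂ a' b ≤ O₁₂ a b)) (γ₀_spec φ a b)
  rw [res_smul, res_res, res_res] at h
  rw [h, mul_smul]

theorem γ₀_right (a b b' : Chart L) (hle : b'.O ≤ b.O) (r : Γ(PicF.XT f (AbDual.ovr T u), b'.O)) (hr : b'.e = r • res L hle b.e) :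
    γ₀ φ a b' * resR inf_le_right (((PicF.XTmap f (c₂ T u)).app b'.O).hom r) =
      resR (inf_le_inf le_rfl ((PicF.XTmap f (c₂ T u)).preimage_mono hle)) (γ₀ φ a b) := by
  refine (isFrame_pullElt (PicF.XTmap f (c₂ T u)) b.he).coord_unique
    (inf_le_right.trans ((PicF.XTmap f (c₂ T u)).preimage_mono hle)) ?_
  have h := congrArg (res _ (inf_le_inf le_rfl ((PicF.XTmap f (c₂ T u)).preimage_mono hle) :
    O₁₂ a b' ≤ O₁₂ a b)) (γ₀_spec φ a b)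
  rw [res_smul, res_res, res_res] at h
  refine Eq.trans ?_ h
  rw [γ₀_spec φ a b', hr, pullElt_smul, ← res_pullElt, res_smul, res_res, mul_smul]

variable {Z Z' : Scheme.{u}}

/-- The chosen point of the double base change. -/
def lft (g₁ g₂ : Z ⟶ PicF.XT f (AbDual.ovr T u)) (h : g₁ ≫ pU f T u = g₂ ≫ pU f T u) :
    Z ⟶ PicF.XT f (U₂ T u) := (exists_lift g₁ g₂ h).choose

theorem lft₁ (g₁ g₂ : Z ⟶ PicF.XT f (AbDual.ovr T u)) (h : g₁ ≫ pU f T u = g₂ ≫ pU f T u) :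
    lft g₁ g₂ h ≫ PicF.XTmap f (c₁ T u) = g₁ := (exists_lift g₁ g₂ h).choose_spec.1

theorem lft₂ (g₁ g₂ : Z ⟶ PicF.XT f (AbDual.ovr T u)) (h : g₁ ≫ pU f T u = g₂ ≫ pU f T u) :
    lft g₁ g₂ h ≫ PicF.XTmap f (c₂ T u) = g₂ := (exists_lift g₁ g₂ h).choose_spec.2

theorem lft_mem (g₁ g₂ : Z ⟶ PicF.XT f (AbDual.ovr T u)) (h : g₁ ≫ pU f T u = g₂ ≫ pU f T u) (a b : Chart L)
    (h₁ : ∀ t, g₁ t ∈ a.O) (h₂ : ∀ t, g₂ t ∈ b.O) (t : Z) : lft g₁ g₂ h t ∈ O₁₂ a b := by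
  refine ⟨?_, ?_⟩
  · have := h₁ t
    rwa [← lft₁ g₁ g₂ h, Scheme.Hom.comp_apply] at this
  · have := h₂ t
    rwa [← lft₂ g₁ g₂ h, Scheme.Hom.comp_apply] at this

/-- The comparison at two points. -/
def raw (g₁ g₂ : Z ⟶ PicF.XT f (AbDual.ovr T u)) (a b : Chart L) (h : g₁ ≫ pU f T u = g₂ ≫ pU f T u)
    (h₁ : ∀ t, g₁ t ∈ a.O) (h₂ : ∀ t, g₂ t ∈ b.O) : Γ(Z, ⊤) :=
  ev (lft g₁ g₂ h) _ (lft_mem g₁ g₂ h a b h₁ h₂) (γ₀ φ a b)

theorem raw_isUnit (g₁ g₂ : Z ⟶ PicF.XT f (AbDual.ovr T u)) (a b : Chart L) (h h₁ h₂) :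
    IsUnit (raw φ g₁ g₂ a b h h₁ h₂) := (exists_γ₀ φ a b).choose_spec.1.map _

theorem raw_nat (k : Z' ⟶ Z) (g₁ g₂ : Z ⟶ PicF.XT f (AbDual.ovr T u)) (a b : Chart L) (h h₁ h₂ h' h₁' h₂') :
    raw φ (k ≫ g₁) (k ≫ g₂) a b h' h₁' h₂' = k.appTop.hom (raw φ g₁ g₂ a b h h₁ h₂) := by
  have e : lft (k ≫ g₁) (k ≫ g₂) h' = k ≫ lft g₁ g₂ h :=
    lift_ext (by rw [lft₁, Category.assoc, lft₁]) (by rw [lft₂, Category.assoc, lft₂])
  rw [raw, raw, ev_congr e _ _ (mem_comp k (lft_mem g₁ g₂ h a b h₁ h₂))]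
  exact ev_comp _ _ _ _ _ _

theorem raw_left (g₁ g₂ : Z ⟶ PicF.XT f (AbDual.ovr T u)) (a a' b : Chart L) (hle : a'.O ≤ a.O) (r : Γ(PicF.XT f (AbDual.ovr T u), a'.O))
    (hr : a'.e = r • res L hle a.e) (h h₁ h₁' h₂) :
    raw φ g₁ g₂ a' b h h₁' h₂ = ev g₁ a'.O h₁' r * raw φ g₁ g₂ a b h h₁ h₂ := by
  rw [raw, raw, γ₀_left φ a a' b hle r hr, map_mul,
    ev_resR (lft g₁ g₂ h) inf_le_left (fun t => (lft_mem g₁ g₂ h a' b h₁' h₂ t).1),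
    ev_app (lft g₁ g₂ h) _ a'.O _ (fun t => by rw [lft₁]; exact h₁' t), ev_congr (lft₁ g₁ g₂ h) _ _ h₁',
    ev_resR (lft g₁ g₂ h) _ (lft_mem g₁ g₂ h a b h₁ h₂)]

theorem raw_right (g₁ g₂ : Z ⟶ PicF.XT f (AbDual.ovr T u)) (a b b' : Chart L) (hle : b'.O ≤ b.O) (r : Γ(PicF.XT f (AbDual.ovr T u), b'.O))
    (hr : b'.e = r • res L hle b.e) (h h₁ h₂ h₂') :
    raw φ g₁ g₂ a b' h h₁ h₂' * ev g₂ b'.O h₂' r = raw φ g₁ g₂ a b h h₁ h₂ := by
  have e := congrArg (ev (lft g₁ g₂ h) _ (lft_mem g₁ g₂ h a b' h₁ h₂')) (γ₀_right φ a b b' hle r hr)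
  rw [map_mul, ev_resR (lft g₁ g₂ h) inf_le_right (fun t => (lft_mem g₁ g₂ h a b' h₁ h₂' t).2),
    ev_app (lft g₁ g₂ h) _ b'.O _ (fun t => by rw [lft₂]; exact h₂' t),
    ev_congr (lft₂ g₁ g₂ h) _ _ h₂', ev_resR (lft g₁ g₂ h) _ (lft_mem g₁ g₂ h a b h₁ h₂)] at e
  exact e

theorem raw_chg₁ (g₁ g₂ : Z ⟶ PicF.XT f (AbDual.ovr T u)) (a a' b : Chart L) (h h₁ h₁' h₂)
    (r : Γ(PicF.XT f (AbDual.ovr T u), a.O ⊓ a'.O)) (hr : res L inf_le_right a'.e = r • res L inf_le_left a.e) :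
    raw φ g₁ g₂ a' b h h₁' h₂ = ev g₁ (a.O ⊓ a'.O) (fun t => ⟨h₁ t, h₁' t⟩) r * raw φ g₁ g₂ a b h h₁ h₂ := by
  have e₁ := raw_left φ g₁ g₂ a (a'.res inf_le_right) b inf_le_left r hr h h₁ (fun t => ⟨h₁ t, h₁' t⟩) h₂
  have e₂ := raw_left φ g₁ g₂ a' (a'.res (inf_le_right : a.O ⊓ a'.O ≤ a'.O)) b inf_le_right 1 (a'.res_rel _) h h₁'
    (fun t => ⟨h₁ t, h₁' t⟩) h₂
  rw [map_one, one_mul] at e₂
  exact e₂.symm.trans e₁

theorem raw_chg₂ (g₁ g₂ : Z ⟶ PicF.XT f (AbDual.ovr T u)) (a b b' : Chart L) (h h₁ h₂ h₂')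
    (r : Γ(PicF.XT f (AbDual.ovr T u), b.O ⊓ b'.O)) (hr : res L inf_le_right b'.e = r • res L inf_le_left b.e) :
    raw φ g₁ g₂ a b' h h₁ h₂' * ev g₂ (b.O ⊓ b'.O) (fun t => ⟨h₂ t, h₂' t⟩) r = raw φ g₁ g₂ a b h h₁ h₂ := by
  have e₁ := raw_right φ g₁ g₂ a b (b'.res inf_le_right) inf_le_left r hr h h₁ h₂ (fun t => ⟨h₂ t, h₂' t⟩)
  have e₂ := raw_right φ g₁ g₂ a b' (b'.res (inf_le_right : b.O ⊓ b'.O ≤ b'.O)) inf_le_right 1 (b'.res_rel _) h h₁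
    h₂' (fun t => ⟨h₂ t, h₂' t⟩)
  rw [map_one, mul_one] at e₂
  rw [← e₂]
  exact e₁

end Raw

section Sec

variable {σ : S ⟶ X} {hσ : σ ≫ f = 𝟙 S}
variable (τ : (Scheme.Modules.pullback (PicF.secT f σ hσ (AbDual.ovr T u))).obj L ≅ Coh.structureModule _)
variable {Z Z' : Scheme.{u}}

local notation "sec" => PicF.secT f σ hσ (AbDual.ovr T u)

/-- Coordinates along the section. -/
def cc (O : (PicF.XT f (AbDual.ovr T u)).Opens) (e : Γ(L, O)) : Γ((AbDual.ovr T u).left, sec ⁻¹ᵁ O) :=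
  (Trans.exists_pullCoord sec τ).choose O e

theorem sec_mem (z : Z ⟶ (AbDual.ovr T u).left) (O : (PicF.XT f (AbDual.ovr T u)).Opens)
    (h : ∀ t, (z ≫ sec) t ∈ O) (t : Z) : z t ∈ sec ⁻¹ᵁ O := by
  have := h t
  rwa [Scheme.Hom.comp_apply] at this

/-- The coordinate of a chart at a point of the section. -/
def tt (z : Z ⟶ (AbDual.ovr T u).left) (a : Chart L) (h : ∀ t, (z ≫ sec) t ∈ a.O) : Γ(Z, ⊤) :=
  ev z _ (sec_mem z a.O h) (cc τ a.O a.e)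

theorem tt_isUnit (z : Z ⟶ (AbDual.ovr T u).left) (a : Chart L) (h) : IsUnit (tt τ z a h) :=
  ((Trans.exists_pullCoord sec τ).choose_spec.1 _ _ a.he).map _

theorem tt_nat (k : Z' ⟶ Z) (z : Z ⟶ (AbDual.ovr T u).left) (a : Chart L) (h h') :
    tt τ (k ≫ z) a h' = k.appTop.hom (tt τ z a h) := ev_comp _ _ _ _ _ _

theorem tt_left (z : Z ⟶ (AbDual.ovr T u).left) (a a' : Chart L) (hle : a'.O ≤ a.O) (r : Γ(PicF.XT f (AbDual.ovr T u), a'.O))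
    (hr : a'.e = r • res L hle a.e) (h h') : tt τ z a' h' = ev (z ≫ sec) a'.O h' r * tt τ z a h := by
  rw [tt, tt, cc, hr, (Trans.exists_pullCoord sec τ).choose_spec.2.1,
    (Trans.exists_pullCoord sec τ).choose_spec.2.2 a.O a'.O hle a.e, map_mul]
  refine congrArg₂ (· * ·) (ev_app z _ a'.O _ h' r) ?_
  exact ev_resR z (Scheme.Hom.preimage_mono _ hle) (sec_mem z a.O h) (sec_mem z a'.O h') _

theorem tt_chg (z : Z ⟶ (AbDual.ovr T u).left) (a a' : Chart L) (h h') (r : Γ(PicF.XT f (AbDual.ovr T u), a.O ⊓ a'.O))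
    (hr : res L inf_le_right a'.e = r • res L inf_le_left a.e) :
    tt τ z a' h' = ev (z ≫ sec) (a.O ⊓ a'.O) (fun t => ⟨h t, h' t⟩) r * tt τ z a h := by
  have e₁ := tt_left τ z a (a'.res inf_le_right) inf_le_left r hr h (fun t => ⟨h t, h' t⟩)
  have e₂ := tt_left τ z a' (a'.res (inf_le_right : a.O ⊓ a'.O ≤ a'.O)) inf_le_right 1 (a'.res_rel _) h'
    (fun t => ⟨h t, h' t⟩)
  rw [map_one, one_mul] at e₂
  exact e₂.symm.trans e₁

end Sec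

end

end Groth.Agent.PicfLib.FppfLine
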